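import Mathlib
import Cfsg.Agent.H950.Count
import Cfsg.Agent.LieClassical.HermBasic
import Cfsg.Agent.H202.Psu
import Cfsg.Agent.H845.KB.AbTools_m3
import Cfsg.Prelude.Def_LieTypeChar
import Cfsg.Agent.BpCl.Rows
import Cfsg.Agent.H952.RcSp
import Cfsg.Agent.LieClassical.OrthFinite
import Cfsg.Agent.H590.StLink
import Cfsg.Agent.H508.KB.Defs
import Cfsg.Agent.H819.KB.Prod_m3
import Cfsg.Agent.Schreier.BNUse
import Cfsg.Agent.Schreier.BNGraph
import Cfsg.Agent.S0308
import Cfsg.Agent.S0309
import Cfsg.Agent.S0312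
import Cfsg.Agent.Schreier.Chev
import Cfsg.Agent.FastGrp
import Cfsg.Agent.Prune
set_option linter.all false

section
prune_inst 0x7f00000000000000000000000000000000000000000000000000000000000000000000000000000000000000000000000000000000000000000000000000000000000000000000000000000000000000003fffffffffffffffffffffffffffbeffbdffffffff

-- part: H107/AutU/Main
section
set_option linter.all false
open scoped Cfsg.Agent.FastGrp

-- part: H107/AutU/Irr
section
/-!
# Endomorphisms of irreducible modules of `p`-groups over finite fields (S4822, helper107)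

`P` is a finite `p`-group, `p` odd, `ρ : P →* Module.End F W` irreducible, `F` finite.

* `finrank_eq_pow`: if `p ∣ |K| - 1` and `P` acts irreducibly on the `K`-space `W`, then `dim_K W` is a power of `p`
  (the number of subspaces of dimension `p ^ a = (dim W)_p` is prime to `p`);
* `end_comm`: the endomorphisms commuting with `P` commute;
* `exists_end`: for every `δ ≠ 0` in `F` there is an endomorphism commuting with `P` of determinant `δ ^ (p ^ a)`.
-/

set_option autoImplicit false

namespace Cfsg.Agent.H107.AutU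

open Module

universe u v w

/-! ### Valuations -/

/-- lifting the exponent, for equal valuations of the exponents -/
theorem val_eq {p q m n : ℕ} [hp : Fact p.Prime] (hp2 : p ≠ 2) (hq : 1 < q) (hpq : p ∣ q - 1) (hm : m ≠ 0)
    (hn : n ≠ 0) (h : padicValNat p m = padicValNat p n) :
    padicValNat p (q ^ m - 1) = padicValNat p (q ^ n - 1) := by
  have hodd := hp.out.odd_of_ne_two hp2
  have h1 : ¬ p ∣ q := by
    intro h2
    have h3 : p ∣ q - (q - 1) := Nat.dvd_sub h2 hpq
    rw [Nat.sub_sub_self hq.le] at h3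
    exact hp.out.one_lt.ne' (Nat.dvd_one.1 h3)
  have e1 := padicValNat.pow_sub_pow (p := p) hodd (x := q) (y := 1) hq hpq h1 hm
  have e2 := padicValNat.pow_sub_pow (p := p) hodd (x := q) (y := 1) hq hpq h1 hn
  rw [one_pow] at e1 e2
  rw [e1, e2, h]

theorem val_prod {p : ℕ} [hp : Fact p.Prime] {ι : Type*} (s : Finset ι) (f : ι → ℕ) (hf : ∀ i ∈ s, f i ≠ 0) :
    padicValNat p (∏ i ∈ s, f i) = ∑ i ∈ s, padicValNat p (f i) := by
  classical
  induction s using Finset.induction_on with
  | empty => simp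
  | insert i s hi ih =>
    rw [Finset.prod_insert hi, Finset.sum_insert hi, padicValNat.mul (hf _ (Finset.mem_insert_self _ _))
      (Finset.prod_ne_zero_iff.2 fun j hj => hf j (Finset.mem_insert_of_mem hj)),
      ih fun j hj => hf j (Finset.mem_insert_of_mem hj)]

/-- the number of subspaces of dimension `p ^ a`, `p ^ a` the `p`-part of the dimension -/
theorem not_dvd_card {p : ℕ} [hp : Fact p.Prime] (hp2 : p ≠ 2) {K : Type*} [Field K] [Fintype K] {W : Type*}
    [AddCommGroup W] [Module K W] [FiniteDimensional K W] (hpK : p ∣ Fintype.card K - 1) {a m' : ℕ}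
    (hm : finrank K W = p ^ a * m') (hm' : ¬ p ∣ m') :
    ¬ p ∣ Nat.card {U : Submodule K W // finrank K U = p ^ a} := by
  have hp' := hp.out
  have hm0 : m' ≠ 0 := by rintro rfl; exact hm' (dvd_zero _)
  set q := Fintype.card K with hq
  have hq1 : 1 < q := Fintype.one_lt_card
  have hle : p ^ a ≤ finrank K W := by
    rw [hm]; exact Nat.le_mul_of_pos_right _ (Nat.pos_of_ne_zero hm0)
  have h1 := H950.card_subspaces_eq (F := K) (V := W) (n := finrank K W) (k := p ^ a) rfl hle hq.symm
  have hpos : ∀ k : ℕ, k ≠ 0 → q ^ k - 1 ≠ 0 := fun k hk =>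
    (Nat.sub_pos_of_lt (Nat.one_lt_pow hk hq1)).ne'
  have hne1 : ∀ j : Fin (p ^ a), q ^ (p ^ a - j.val) - 1 ≠ 0 := fun j => hpos _ (by have := j.2; omega)
  have hne2 : ∀ j : Fin (p ^ a), q ^ (finrank K W - j.val) - 1 ≠ 0 := fun j => hpos _ (by have := j.2; omega)
  have hval : ∀ j : Fin (p ^ a), padicValNat p (q ^ (finrank K W - j.val) - 1) =
      padicValNat p (q ^ (p ^ a - j.val) - 1) := by
    intro j
    refine val_eq hp2 hq1 hpK (by have := j.2; omega) (by have := j.2; omega) ?_
    rcases Nat.eq_zero_or_pos j.val with h0 | h0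
    · rw [h0, Nat.sub_zero, Nat.sub_zero, hm, padicValNat.mul (pow_ne_zero _ hp'.ne_zero) hm0,
        padicValNat.eq_zero_of_not_dvd hm', add_zero]
    · -- both are the valuation of `j`
      have key : ∀ c : ℕ, p ^ a ∣ c → j.val < c → padicValNat p (c - j.val) = padicValNat p j.val := by
        intro c hc hjc
        have hlt : padicValNat p j.val < a := by
          by_contra hcon
          push Not at hcon
          have h2 : p ^ a ∣ j.val := (padicValNat_dvd_iff_le h0.ne').2 hcon
          have := Nat.le_of_dvd h0 h2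
          have := j.2
          omega
        have hd1 : ∀ k, k ≤ a → (p ^ k ∣ c - j.val ↔ p ^ k ∣ j.val) := by
          intro k hk
          have hkc : p ^ k ∣ c := (pow_dvd_pow p hk).trans hc
          constructor
          · intro h3
            have h4 := Nat.dvd_sub hkc h3
            rwa [Nat.sub_sub_self hjc.le] at h4
          · intro h3
            exact Nat.dvd_sub hkc h3
        have hcj : c - j.val ≠ 0 := by omega
        have e1 : p ^ padicValNat p j.val ∣ c - j.val := (hd1 _ hlt.le).2 pow_padicValNat_dvd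
        have e2 : ¬ p ^ (padicValNat p j.val + 1) ∣ c - j.val := by
          rw [hd1 _ hlt]
          exact pow_succ_padicValNat_not_dvd h0.ne'
        apply le_antisymm
        · by_contra hcon
          push Not at hcon
          exact e2 ((padicValNat_dvd_iff_le hcj).2 hcon)
        · exact (padicValNat_dvd_iff_le hcj).1 e1
      rw [key _ ⟨m', hm⟩ (by have := j.2; omega), key _ dvd_rfl j.2]
  have h2 : padicValNat p (∏ j : Fin (p ^ a), (q ^ (finrank K W - j.val) - 1)) =
      padicValNat p (∏ j : Fin (p ^ a), (q ^ (p ^ a - j.val) - 1)) := by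
    rw [val_prod _ _ (fun j _ => hne2 j), val_prod _ _ (fun j _ => hne1 j)]
    exact Finset.sum_congr rfl fun j _ => hval j
  intro hd
  have hN : Nat.card {U : Submodule K W // finrank K U = p ^ a} ≠ 0 := by
    intro h0
    rw [h0, zero_mul] at h1
    exact Finset.prod_ne_zero_iff.2 (fun j _ => hne2 j) h1.symm
  have h3 := congrArg (padicValNat p) h1
  rw [padicValNat.mul hN (Finset.prod_ne_zero_iff.2 fun j _ => hne1 j), h2] at h3
  have h4 := one_le_padicValNat_of_dvd hN hd
  omega

/-! ### Modules -/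

/-- **Lemma M.** An irreducible module of a `p`-group over a finite field `K` with `p ∣ |K| - 1`. -/
theorem finrank_eq_pow {p : ℕ} [hp : Fact p.Prime] (hp2 : p ≠ 2) {K : Type*} [Field K] [Fintype K] {W : Type*}
    [AddCommGroup W] [Module K W] [FiniteDimensional K W] [Nontrivial W] (hpK : p ∣ Fintype.card K - 1)
    {P : Type*} [Group P] [Finite P] (hP : IsPGroup p P) (ρ : P →* (W ≃ₗ[K] W))
    (irr : ∀ U : Submodule K W, (∀ g : P, ∀ u ∈ U, ρ g u ∈ U) → U = ⊥ ∨ U = ⊤) :
    ∃ a : ℕ, finrank K W = p ^ a := by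
  classical
  have hp' := hp.out
  have hWf : Finite W := Module.finite_of_finite K
  have hW0 : finrank K W ≠ 0 := (Module.finrank_pos (R := K) (M := W)).ne'
  obtain ⟨a, m', hm', hm⟩ := Nat.exists_eq_pow_mul_and_not_dvd hW0 p hp'.ne_one
  have h1 := not_dvd_card hp2 (W := W) hpK hm hm'
  let X := {U : Submodule K W // finrank K U = p ^ a}
  let act : MulAction P X :=
    { smul := fun g U => ⟨U.1.map (ρ g).toLinearMap, by
        rw [LinearEquiv.finrank_map_eq]; exact U.2⟩
      one_smul := fun U => Subtype.ext (by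
        change U.1.map (ρ 1).toLinearMap = U.1
        rw [map_one]
        exact Submodule.map_id _)
      mul_smul := fun g h U => Subtype.ext (by
        change U.1.map (ρ (g * h)).toLinearMap = (U.1.map (ρ h).toLinearMap).map (ρ g).toLinearMap
        rw [map_mul, ← Submodule.map_comp]
        rfl) }
  have hX : Finite X := inferInstance
  obtain ⟨U, hU⟩ := hP.nonempty_fixed_point_of_prime_not_dvd_card X h1
  have hinv : ∀ g : P, ∀ u ∈ U.1, ρ g u ∈ U.1 := by
    intro g u hu
    have h2 : g • U = U := hU g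
    have h3 : U.1.map (ρ g).toLinearMap = U.1 := congrArg Subtype.val h2
    rw [← h3]
    exact ⟨u, hu, rfl⟩
  refine ⟨a, ?_⟩
  rcases irr U.1 hinv with h2 | h2
  · exfalso
    have h3 := U.2
    rw [h2, finrank_bot] at h3
    exact (pow_ne_zero a hp'.ne_zero) h3.symm
  · have h3 := U.2
    rwa [h2, finrank_top] at h3

section EndAlg

variable {F : Type u} [Field F] {W : Type v} [AddCommGroup W] [Module F W] {P : Type w} [Group P]

/-- irreducible -/
def Irr (ρ : P →* (W ≃ₗ[F] W)) : Prop :=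
  ∀ U : Submodule F W, (∀ g : P, ∀ u ∈ U, ρ g u ∈ U) → U = ⊥ ∨ U = ⊤

/-- `f` commutes with `P` -/
def Com (ρ : P →* (W ≃ₗ[F] W)) (f : Module.End F W) : Prop := ∀ (g : P) (w : W), f (ρ g w) = ρ g (f w)

/-- the algebra of the endomorphisms commuting with `P` -/
def EA (ρ : P →* (W ≃ₗ[F] W)) : Subalgebra F (Module.End F W) where
  carrier := {f | Com ρ f}
  mul_mem' := by
    intro a b ha hb g w
    change a (b (ρ g w)) = ρ g (a (b w))
    rw [hb, ha]
  one_mem' := fun g w => rfl
  add_mem' := by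
    intro a b ha hb g w
    rw [LinearMap.add_apply, LinearMap.add_apply, ha, hb, map_add]
  zero_mem' := fun g w => by simp
  algebraMap_mem' := by
    intro r g w
    rw [Module.algebraMap_end_apply, Module.algebraMap_end_apply, map_smul]

theorem injective_of_irr {ρ : P →* (W ≃ₗ[F] W)} (hirr : Irr ρ) {f : Module.End F W} (hf : Com ρ f) (h0 : f ≠ 0) :
    Function.Injective f := by
  rw [← LinearMap.ker_eq_bot]
  rcases hirr (LinearMap.ker f) (fun g u hu => by
    rw [LinearMap.mem_ker] at hu ⊢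
    rw [hf, hu, map_zero]) with h | h
  · exact h
  · exact absurd (LinearMap.ker_eq_top.1 h) h0

/-- Schur and Wedderburn -/
theorem isField_EA [Finite W] [Nontrivial W] {ρ : P →* (W ≃ₗ[F] W)} (hirr : Irr ρ) : IsField (EA ρ) := by
  have hfinE : Finite (Module.End F W) := Finite.of_injective (fun f => (f : W → W)) DFunLike.coe_injective
  have hfin : Finite (EA ρ) := inferInstance
  have hnt : Nontrivial (EA ρ) := by
    refine ⟨0, 1, fun h => ?_⟩
    obtain ⟨w, hw⟩ := exists_ne (0 : W)
    apply hw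
    have h1 := congrArg (fun f : EA ρ => (f : Module.End F W) w) h
    exact h1.symm
  have hz : NoZeroDivisors (EA ρ) := by
    refine ⟨fun {a b} hab => ?_⟩
    by_cases ha : a = 0
    · exact Or.inl ha
    · right
      have ha' : (a : Module.End F W) ≠ 0 := fun h => ha (Subtype.ext h)
      have h1 := injective_of_irr hirr a.2 ha'
      apply Subtype.ext
      ext w
      apply h1
      have h2 := congrArg (fun f : EA ρ => (f : Module.End F W) w) hab
      exact h2.trans (map_zero (a : Module.End F W)).symm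
  have hd : IsDomain (EA ρ) := NoZeroDivisors.to_isDomain _
  exact Finite.isDomain_to_isField (EA ρ)

/-- the endomorphisms commuting with `P` commute -/
theorem end_comm [Finite W] [Nontrivial W] {ρ : P →* (W ≃ₗ[F] W)} (hirr : Irr ρ) {f g : Module.End F W}
    (hf : Com ρ f) (hg : Com ρ g) : f * g = g * f := by
  have h := (isField_EA hirr).mul_comm ⟨f, hf⟩ ⟨g, hg⟩
  exact congrArg Subtype.val h

/-- the field of the endomorphisms commuting with `P` -/
theorem exists_field [Finite W] [Nontrivial W] {ρ : P →* (W ≃ₗ[F] W)} (hirr : Irr ρ) :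
    ∃ (K : Type v) (_ : Field K) (_ : Finite K) (_ : Algebra F K) (_ : Module K W) (_ : IsScalarTower F K W),
      (∀ (k : K) (g : P) (w : W), k • ρ g w = ρ g (k • w)) ∧
      (∀ f : Module.End F W, Com ρ f → ∃ k : K, ∀ w, f w = k • w) := by
  have hfinE : Finite (Module.End F W) := Finite.of_injective (fun f => (f : W → W)) DFunLike.coe_injective
  have hfin : Finite (EA ρ) := inferInstance
  have hF := isField_EA hirr
  let iF : Field (EA ρ) := hF.toField
  let iA : Algebra F (EA ρ) := (algebraMap F (EA ρ)).toAlgebra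
  let iM : Module (EA ρ) W := Module.compHom W (EA ρ).val.toRingHom
  refine ⟨EA ρ, iF, hfin, iA, iM, ?_, ?_, ?_⟩
  · refine ⟨fun a k w => ?_⟩
    rfl
  · intro k g w
    exact k.2 g w
  · intro f hf
    exact ⟨⟨f, hf⟩, fun w => rfl⟩

/-- **Lemma A.** The determinants of the endomorphisms commuting with an irreducible `p`-group. -/
theorem exists_end {p : ℕ} [hp : Fact p.Prime] (hp2 : p ≠ 2) [Finite F] [Finite W] [Nontrivial W] [Finite P]
    (hP : IsPGroup p P) {ρ : P →* (W ≃ₗ[F] W)} (hirr : Irr ρ) (δ : F) :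
    ∃ (a : ℕ) (y : Module.End F W), Com ρ y ∧ LinearMap.det y = δ ^ (p ^ a) := by
  classical
  have hp' := hp.out
  have hFD : FiniteDimensional F W := Module.Finite.of_finite
  by_cases htriv : ∀ g : P, ρ g = 1
  · -- trivial action
    have h1 : finrank F W = 1 := by
      obtain ⟨w, hw⟩ := exists_ne (0 : W)
      rcases hirr (Submodule.span F {w}) (fun g u hu => by rw [htriv g]; exact hu) with h | h
      · exact absurd ((Submodule.span_singleton_eq_bot).1 h) hw
      · rw [← finrank_top F W, ← h]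
        exact finrank_span_singleton hw
    refine ⟨0, δ • 1, fun g w => ?_, ?_⟩
    · rw [htriv g]; rfl
    · rw [LinearMap.det_smul, h1, map_one, mul_one, pow_zero]
  · push Not at htriv
    obtain ⟨g0, hg0⟩ := htriv
    -- a central element
    let R := ρ.range
    have hRf : Finite R := Finite.of_surjective ρ.rangeRestrict ρ.rangeRestrict_surjective
    have hRp : IsPGroup p R := hP.of_surjective ρ.rangeRestrict ρ.rangeRestrict_surjective
    have hRn : Nontrivial R := ⟨⟨ρ g0, g0, rfl⟩, 1, fun h => hg0 (congrArg Subtype.val h)⟩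
    have hc := hRp.center_nontrivial
    obtain ⟨z, hz⟩ := exists_ne (1 : Subgroup.center R)
    obtain ⟨K, iK, hKf, iA, iM, iST, hK1, hK2⟩ := exists_field hirr
    have hzc : Com ρ (((z : R) : W ≃ₗ[F] W) : W →ₗ[F] W) := by
      intro g w
      have h1 := Subgroup.mem_center_iff.1 z.2 ⟨ρ g, g, rfl⟩
      have h2 := congrArg (fun r : R => (r : W ≃ₗ[F] W) w) h1
      exact h2.symm
    obtain ⟨k, hk⟩ := hK2 _ hzc
    have hk1 : k ≠ 1 := by
      rintro rfl
      apply hz
      apply Subtype.ext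
      apply Subtype.ext
      ext w
      exact (hk w).trans (one_smul K w)
    obtain ⟨j, hj⟩ := hRp (z : R)
    have hkj : k ^ (p ^ j) = 1 := by
      have h1 : ∀ (i : ℕ) (w : W), (((z : R) : W ≃ₗ[F] W) ^ i) w = k ^ i • w := by
        intro i
        induction i with
        | zero => intro w; rw [pow_zero, pow_zero, one_smul]; rfl
        | succ i ih =>
          intro w
          rw [pow_succ, pow_succ, mul_smul]
          change (((z : R) : W ≃ₗ[F] W) ^ i) (((z : R) : W ≃ₗ[F] W) w) = _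
          rw [ih]
          exact congrArg (fun t => k ^ i • t) (hk w)
      obtain ⟨w, hw⟩ := exists_ne (0 : W)
      have h2 := h1 (p ^ j) w
      have h3 : ((z : R) : W ≃ₗ[F] W) ^ (p ^ j) = 1 := by
        have := congrArg Subtype.val hj
        simpa only [_root_.SubmonoidClass.coe_pow, _root_.OneMemClass.coe_one] using this
      rw [h3] at h2
      have h4 : (k ^ (p ^ j) - 1) • w = 0 := by
        rw [sub_smul, one_smul, ← h2]
        exact sub_self _
      rcases smul_eq_zero.1 h4 with h5 | h5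
      · exact sub_eq_zero.1 h5
      · exact absurd h5 hw
    let iKf : Fintype K := Fintype.ofFinite K
    have hpK : p ∣ Fintype.card K - 1 := by
      have hk0 : k ≠ 0 := by
        rintro rfl
        rw [zero_pow (pow_ne_zero _ hp'.ne_zero)] at hkj
        exact zero_ne_one hkj
      let κ : Kˣ := Units.mk0 k hk0
      have hκ : κ ^ (p ^ j) = 1 := Units.ext (by simpa only [κ, _root_.Units.val_pow_eq_pow_val, _root_.Units.val_mk0, _root_.Units.val_one] using hkj)
      have hκ1 : κ ≠ 1 := fun h => hk1 (congrArg Units.val h)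
      obtain ⟨i, -, hi⟩ := (Nat.dvd_prime_pow hp').1 (orderOf_dvd_of_pow_eq_one hκ)
      have hi0 : i ≠ 0 := by
        rintro rfl
        rw [pow_zero, orderOf_eq_one_iff] at hi
        exact hκ1 hi
      have h1 : p ∣ orderOf κ := by rw [hi]; exact dvd_pow_self p hi0
      have h2 := orderOf_dvd_card (x := κ)
      rw [Fintype.card_units] at h2
      exact h1.trans h2
    have hFDK : FiniteDimensional K W := Module.Finite.of_finite
    let ρK : P →* (W ≃ₗ[K] W) :=
      { toFun := fun g => { (ρ g).toAddEquiv with map_smul' := fun k w => (hK1 k g w).symm }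
        map_one' := by
          ext w
          change ρ 1 w = w
          rw [map_one]; rfl
        map_mul' := by
          intro g h
          ext w
          change ρ (g * h) w = ρ g (ρ h w)
          rw [map_mul]; rfl }
    obtain ⟨a, ha⟩ := finrank_eq_pow hp2 (W := W) hpK hP ρK (by
      intro U hU
      rcases hirr (U.restrictScalars F) (fun g u hu => hU g u hu) with h | h
      · exact Or.inl ((Submodule.restrictScalars_eq_bot_iff _ _ _).1 h)
      · exact Or.inr ((Submodule.restrictScalars_eq_top_iff _ _ _).1 h))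
    obtain ⟨l, hl⟩ := FiniteField.norm_surjective F K δ
    refine ⟨a, (algebraMap K (Module.End K W) l).restrictScalars F, ?_, ?_⟩
    · intro g w
      exact hK1 l g w
    · rw [LinearMap.det_restrictScalars]
      have h1 : LinearMap.det (algebraMap K (Module.End K W) l) = l ^ (p ^ a) := by
        rw [Algebra.algebraMap_eq_smul_one, LinearMap.det_smul, map_one, mul_one, ha]
      rw [h1, map_pow, hl]

end EndAlg

end Cfsg.Agent.H107.AutU
end

-- part: H107/AutU/Mod
section
/-!
# Invariant subspaces, Maschke, and endomorphisms which are `1` on a complement (S4822, helper107)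
-/

set_option autoImplicit false

namespace Cfsg.Agent.H107.AutU

open Module

universe u v w

variable {F : Type u} [Field F] {V : Type v} [AddCommGroup V] [Module F V] {P : Type w} [Group P]

/-- invariant subspaces -/
def Inv (τ : P →* (V ≃ₗ[F] V)) (U : Submodule F V) : Prop := ∀ g : P, ∀ u ∈ U, τ g u ∈ U

/-- minimal invariant subspaces -/
def Mini (τ : P →* (V ≃ₗ[F] V)) (W : Submodule F V) : Prop :=
  Inv τ W ∧ W ≠ ⊥ ∧ ∀ U ≤ W, Inv τ U → U = ⊥ ∨ U = W

variable {τ : P →* (V ≃ₗ[F] V)}

theorem inv_top : Inv τ ⊤ := fun _ _ _ => trivial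

theorem Inv.inf {U U' : Submodule F V} (h : Inv τ U) (h' : Inv τ U') : Inv τ (U ⊓ U') :=
  fun g u hu => ⟨h g u hu.1, h' g u hu.2⟩

theorem apply_inv_apply (g : P) (v : V) : τ g (τ g⁻¹ v) = v := by
  rw [← LinearEquiv.mul_apply, ← map_mul, mul_inv_cancel, map_one]
  rfl

theorem inv_apply_apply (g : P) (v : V) : τ g⁻¹ (τ g v) = v := by
  rw [← LinearEquiv.mul_apply, ← map_mul, inv_mul_cancel, map_one]
  rfl

theorem exists_mini [Finite V] {N : Submodule F V} (hN : Inv τ N) (h0 : N ≠ ⊥) : ∃ W ≤ N, Mini τ W := by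
  have hf : Finite (Submodule F V) := Finite.of_injective (fun U : Submodule F V => (U : Set V)) SetLike.coe_injective
  obtain ⟨W, hWN, hW⟩ := (Set.toFinite {U : Submodule F V | Inv τ U ∧ U ≠ ⊥}).exists_le_minimal ⟨hN, h0⟩
  refine ⟨W, hWN, hW.prop.1, hW.prop.2, fun U hU hU' => ?_⟩
  by_cases h : U = ⊥
  · exact Or.inl h
  · exact Or.inr (le_antisymm hU (hW.le_of_le ⟨hU', h⟩ hU))

/-- the restriction -/
def res (τ : P →* (V ≃ₗ[F] V)) (W : Submodule F V) (h : Inv τ W) : P →* (W ≃ₗ[F] W) where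
  toFun g :=
    { toFun := fun w => ⟨τ g w, h g w w.2⟩
      invFun := fun w => ⟨τ g⁻¹ w, h g⁻¹ w w.2⟩
      left_inv := fun w => Subtype.ext (inv_apply_apply g (w : V))
      right_inv := fun w => Subtype.ext (apply_inv_apply g (w : V))
      map_add' := fun a b => Subtype.ext (map_add (τ g) (a : V) b)
      map_smul' := fun c a => Subtype.ext (map_smul (τ g) c (a : V)) }
  map_one' := by
    ext w
    change τ 1 (w : V) = w
    rw [map_one]; rfl
  map_mul' g g' := by
    ext w
    change τ (g * g') (w : V) = τ g (τ g' w)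
    rw [map_mul]; rfl

theorem res_apply {W : Submodule F V} (h : Inv τ W) (g : P) (w : W) : ((res τ W h g w : W) : V) = τ g w := rfl

theorem irr_res {W : Submodule F V} (h : Mini τ W) : Irr (res τ W h.1) := by
  intro U hU
  have h1 : Inv τ (U.map W.subtype) := by
    rintro g _ ⟨u, hu, rfl⟩
    exact ⟨res τ W h.1 g u, hU g u hu, rfl⟩
  rcases h.2.2 _ (Submodule.map_subtype_le W U) h1 with h2 | h2
  · left
    exact Submodule.map_injective_of_injective W.injective_subtype (h2.trans (Submodule.map_bot _).symm)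
  · right
    rw [eq_top_iff]
    rintro ⟨w, hw⟩ -
    have h3 : w ∈ U.map W.subtype := by rw [h2]; exact hw
    obtain ⟨u, hu, hu'⟩ := h3
    have : u = ⟨w, hw⟩ := Subtype.ext hu'
    rw [← this]
    exact hu

/-- Maschke -/
theorem maschke [Finite P] (hP : (Nat.card P : F) ≠ 0) {N : Submodule F V} (hN : Inv τ N) :
    ∃ C, Inv τ C ∧ IsCompl N C := by
  classical
  let _ := Fintype.ofFinite P
  obtain ⟨C0, hC0⟩ := N.exists_isCompl
  let π : V →ₗ[F] N := N.projectionOnto C0 hC0
  let A : V →ₗ[F] N := (Nat.card P : F)⁻¹ • ∑ g : P, ((res τ N hN g).toLinearMap ∘ₗ π ∘ₗ (τ g⁻¹).toLinearMap)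
  have hA1 : ∀ v, A v = (Nat.card P : F)⁻¹ • ∑ g : P, res τ N hN g (π (τ g⁻¹ v)) := by
    intro v
    simp only [A, LinearMap.sum_apply, _root_.Nat.card_eq_fintype_card, _root_.map_inv, _root_.LinearMap.smul_apply, _root_.LinearMap.coe_comp, _root_.LinearEquiv.coe_coe, _root_.LinearEquiv.coe_inv, _root_.Function.comp_apply]
  have hA2 : ∀ x : N, A x = x := by
    intro x
    rw [hA1]
    have h1 : ∀ g : P, res τ N hN g (π (τ g⁻¹ x)) = x := by
      intro g
      have h2 : π (τ g⁻¹ x) = ⟨τ g⁻¹ x, hN g⁻¹ x x.2⟩ := Submodule.projectionOnto_apply_of_mem_left hC0 _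
      rw [h2]
      exact Subtype.ext (apply_inv_apply g (x : V))
    rw [Finset.sum_congr rfl fun g _ => h1 g, Finset.sum_const, Finset.card_univ, ← Nat.card_eq_fintype_card,
      ← Nat.cast_smul_eq_nsmul F, smul_smul, inv_mul_cancel₀ hP, one_smul]
  have hA3 : ∀ (g : P) (v : V), A (τ g v) = res τ N hN g (A v) := by
    intro g v
    rw [hA1, hA1, map_smul, map_sum]
    congr 1
    refine Fintype.sum_equiv (Equiv.mulLeft g⁻¹) _ _ fun x => ?_
    rw [Equiv.coe_mulLeft, mul_inv_rev, inv_inv, map_mul, map_mul, LinearEquiv.mul_apply, LinearEquiv.mul_apply]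
    refine Subtype.ext ?_
    rw [res_apply, res_apply, res_apply, apply_inv_apply]
    rfl
  refine ⟨LinearMap.ker A, ?_, LinearMap.isCompl_of_proj hA2⟩
  intro g u hu
  rw [LinearMap.mem_ker] at hu ⊢
  rw [hA3, hu, map_zero]

/-! ### Extension by `1` on a complement -/

section ext

variable {W C : Submodule F V} (hc : IsCompl W C) (y : Module.End F W)

/-- `y` on `W`, `1` on `C` -/
noncomputable def extd : Module.End F V := LinearMap.id + W.subtype ∘ₗ (y - 1) ∘ₗ W.projectionOnto C hc

theorem extd_apply (v : V) : extd hc y v = v + ((y (W.projectionOnto C hc v) : W) - (W.projectionOnto C hc v : W) : V) :=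
  rfl

theorem extd_left (w : W) : extd hc y w = y w := by
  rw [extd_apply, Submodule.projectionOnto_apply_left]
  abel

theorem extd_right {c : V} (h : c ∈ C) : extd hc y c = c := by
  rw [extd_apply, Submodule.projectionOnto_apply_of_mem_right hc h, map_zero]
  simp

theorem extd_sub_mem (v : V) : extd hc y v - v ∈ W := by
  rw [extd_apply, add_sub_cancel_left]
  exact W.sub_mem (y _).2 (W.projectionOnto C hc v).2

include hc in
theorem eq_add (v : V) : ∃ w ∈ W, ∃ c ∈ C, v = w + c := by
  have h : v ∈ W ⊔ C := by rw [hc.sup_eq_top]; trivial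
  obtain ⟨w, hw, c, hc', rfl⟩ := Submodule.mem_sup.1 h
  exact ⟨w, hw, c, hc', rfl⟩

variable {y}

theorem extd_com (hW : Inv τ W) (hC : Inv τ C) (hy : Com (res τ W hW) y) : Com τ (extd hc y) := by
  intro g v
  obtain ⟨w, hw, c, hc', rfl⟩ := eq_add hc v
  rw [map_add, map_add, map_add, map_add, extd_right hc y hc', extd_right hc y (hC g c hc')]
  congr 1
  have h1 := hy g ⟨w, hw⟩
  have h2 := extd_left hc y ⟨τ g w, hW g w hw⟩
  have h3 := extd_left hc y ⟨w, hw⟩
  rw [h2, h3]
  exact congrArg Subtype.val h1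

theorem det_extd [FiniteDimensional F V] : LinearMap.det (extd hc y) = LinearMap.det y := by
  have he : W ≤ W.comap (extd hc y) := fun w hw => by
    rw [Submodule.mem_comap, extd_left hc y ⟨w, hw⟩]
    exact (y _).2
  rw [LinearMap.det_eq_det_mul_det W (extd hc y) he]
  have h1 : (extd hc y).restrict he = y := by
    ext w
    exact extd_left hc y w
  have h2 : W.mapQ W (extd hc y) he = LinearMap.id := by
    ext v
    rw [LinearMap.comp_apply, Submodule.mkQ_apply, Submodule.mapQ_apply, LinearMap.comp_apply, Submodule.mkQ_apply,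
      LinearMap.id_apply, Submodule.Quotient.eq]
    exact extd_sub_mem hc y v
  rw [h1, h2, LinearMap.det_id, mul_one]

end ext

end Cfsg.Agent.H107.AutU
end

-- part: H107/AutU/Geo
section
/-!
# Unitary endomorphisms centralizing a `p`-group, with given determinant (S4822, helper107)
-/

set_option autoImplicit false

namespace Cfsg.Agent.H107.AutU

open Module Cfsg Cfsg.Agent.LieClassical.HermBasic

universe u v w

variable {F : Type u} [Field F] [Fintype F] {q n : ℕ}

/-- Hilbert's theorem 90 -/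
theorem exists_h90 (hF : Fintype.card F = q ^ 2) {δ : F} (hδ : δ * δ ^ q = 1) : ∃ d : F, d ≠ 0 ∧ δ * d ^ q = d := by
  have key : ∀ x : F, δ * (x + δ * x ^ q) ^ q = x + δ * x ^ q := by
    intro x
    rw [add_pow_q hF, mul_pow, pow_q_pow_q hF, mul_add, ← mul_assoc, hδ, one_mul, add_comm]
  by_contra hcon
  push Not at hcon
  have h0 : ∀ x : F, x + δ * x ^ q = 0 := by
    intro x
    by_contra hx
    exact hcon _ hx (key x)
  have h1 : δ = -1 := by
    have := h0 1
    rw [one_pow, mul_one] at this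
    exact eq_neg_of_add_eq_zero_right this
  obtain ⟨x, hx⟩ := exists_not_fixed hF
  apply hx
  have h2 := h0 x
  rw [h1, neg_one_mul, ← sub_eq_add_neg, sub_eq_zero] at h2
  exact h2.symm

theorem herm_nondeg_right (hF : Fintype.card F = q ^ 2) {v : Fin n → F} (h : ∀ u, hermForm n F q u v = 0) : v = 0 :=
  herm_nondeg hF fun u => herm_eq_zero_swap hF (h u)

theorem eq_of_herm (hF : Fintype.card F = q ^ 2) {v v' : Fin n → F}
    (h : ∀ u, hermForm n F q u v = hermForm n F q u v') : v = v' := by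
  rw [← sub_eq_zero]
  refine herm_nondeg_right hF fun u => ?_
  rw [herm_sub_right hF, h, sub_self]

/-- the orthogonal subspace -/
def orth (hF : Fintype.card F = q ^ 2) (U : Submodule F (Fin n → F)) : Submodule F (Fin n → F) where
  carrier := {v | ∀ u ∈ U, hermForm n F q u v = 0}
  add_mem' := by
    intro a b ha hb u hu
    rw [herm_add_right hF, ha u hu, hb u hu, add_zero]
  zero_mem' := fun _ _ => herm_zero_right hF _
  smul_mem' := by
    intro c x hx u hu
    rw [herm_smul_right, hx u hu, mul_zero]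

theorem le_orth_comm {hF : Fintype.card F = q ^ 2} {U U' : Submodule F (Fin n → F)} (h : U ≤ orth hF U') :
    U' ≤ orth hF U := fun v hv _ hu => herm_eq_zero_swap hF (h hu v hv)

theorem finrank_orth_ge (hF : Fintype.card F = q ^ 2) (U : Submodule F (Fin n → F)) :
    n ≤ finrank F (orth hF U) + finrank F U := by
  classical
  let b := Module.finBasis F U
  let T : (Fin n → F) →ₗ[F] (Fin (finrank F U) → F) :=
    { toFun := fun v i => hermForm n F q v (b i)
      map_add' := fun x y => funext fun i => herm_add_left x y _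
      map_smul' := fun c x => funext fun i => herm_smul_left c x _ }
  have h1 := T.finrank_range_add_finrank_ker
  have h2 : finrank F (LinearMap.range T) ≤ finrank F U := by
    refine (Submodule.finrank_le _).trans ?_
    rw [Module.finrank_fin_fun]
  have h3 : LinearMap.ker T ≤ orth hF U := by
    intro v hv u hu
    rw [LinearMap.mem_ker] at hv
    have h4 : (u : Fin n → F) = ∑ i, (b.repr ⟨u, hu⟩ i) • ((b i : U) : Fin n → F) := by
      have h5 := congrArg Subtype.val (b.sum_repr ⟨u, hu⟩)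
      refine h5.symm.trans ?_
      rw [Submodule.coe_sum]
      rfl
    apply herm_eq_zero_swap hF
    rw [h4, herm_sum_right hF]
    refine Finset.sum_eq_zero fun i _ => ?_
    rw [herm_smul_right]
    have h6 : hermForm n F q v (b i) = 0 := congrFun hv i
    rw [h6, mul_zero]
  have h4 := Submodule.finrank_mono h3
  rw [Module.finrank_fin_fun] at h1
  omega

/-- adjoints -/
theorem exists_adj (hF : Fintype.card F = q ^ 2) (X : Module.End F (Fin n → F)) :
    ∃ X' : Module.End F (Fin n → F), (∀ u v, hermForm n F q (X u) v = hermForm n F q u (X' v)) ∧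
      LinearMap.det X' = (LinearMap.det X) ^ q := by
  classical
  let M := LinearMap.toMatrix' X
  let M' := (((conj hF : F ≃+* F) : F →+* F).mapMatrix M).transpose
  refine ⟨Matrix.toLin' M', ?_, ?_⟩
  · intro u v
    have h1 : X u = M.mulVec u := by
      rw [← Matrix.toLin'_apply, Matrix.toLin'_toMatrix']
    rw [h1, Matrix.toLin'_apply, herm_def, herm_def]
    have h2 : ∀ j, (M'.mulVec v j) ^ q = ∑ i, M i j * v i ^ q := by
      intro j
      rw [Matrix.mulVec, dotProduct, sum_pow_q hF]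
      refine Finset.sum_congr rfl fun i _ => ?_
      have h3 : M' j i = (M i j) ^ q := rfl
      rw [h3, mul_pow, pow_q_pow_q hF]
    have h4 : ∀ i, M.mulVec u i * v i ^ q = ∑ j, M i j * u j * v i ^ q := fun i => by
      rw [Matrix.mulVec, dotProduct, Finset.sum_mul]
    rw [Finset.sum_congr rfl fun i _ => h4 i, Finset.sum_comm]
    refine Finset.sum_congr rfl fun j _ => ?_
    rw [h2, Finset.mul_sum]
    refine Finset.sum_congr rfl fun i _ => ?_
    ring
  · rw [LinearMap.det_toLin', Matrix.det_transpose, ← RingHom.map_det, LinearMap.det_toMatrix']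
    rfl

/-- the pair of subspaces -/
theorem exists_pair {p : ℕ} [hp : Fact p.Prime] (hF : Fintype.card F = q ^ 2) {P : Type w} [Group P] [Finite P]
    (hP : IsPGroup p P) (hpF : (p : F) ≠ 0) {τ : P →* ((Fin n → F) ≃ₗ[F] (Fin n → F))}
    (hτ : ∀ (g : P) (u v : Fin n → F), hermForm n F q (τ g u) (τ g v) = hermForm n F q u v) (hn : n ≠ 0) :
    ∃ W W' : Submodule F (Fin n → F), Mini τ W ∧ Mini τ W' ∧ W ⊓ orth hF W' = ⊥ ∧ W' ⊓ orth hF W = ⊥ ∧
      (W' = W ∨ (W ≤ orth hF W ∧ W' ≤ orth hF W')) := by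
  have hp' := hp.out
  have hPF : (Nat.card P : F) ≠ 0 := by
    obtain ⟨k, hk⟩ := IsPGroup.iff_card.1 hP
    rw [hk, Nat.cast_pow]
    exact pow_ne_zero _ hpF
  have horth : ∀ U : Submodule F (Fin n → F), Inv τ U → Inv τ (orth hF U) := by
    intro U hU g v hv u hu
    have h1 := hv (τ g⁻¹ u) (hU g⁻¹ u hu)
    rw [← hτ g, apply_inv_apply] at h1
    exact h1
  by_cases hcase : ∃ W, Mini τ W ∧ W ⊓ orth hF W = ⊥
  · obtain ⟨W, hW, h1⟩ := hcase
    exact ⟨W, W, hW, hW, h1, h1, Or.inl rfl⟩
  · push Not at hcase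
    have hiso : ∀ W, Mini τ W → W ≤ orth hF W := by
      intro W hW
      rcases hW.2.2 _ inf_le_left (hW.1.inf (horth W hW.1)) with h | h
      · exact absurd h (hcase W hW)
      · exact inf_eq_left.1 h
    have htop : (⊤ : Submodule F (Fin n → F)) ≠ ⊥ := by
      intro h
      have h1 : finrank F (⊤ : Submodule F (Fin n → F)) = 0 := by rw [h, finrank_bot]
      rw [finrank_top, Module.finrank_fin_fun] at h1
      exact hn h1
    obtain ⟨W, -, hW⟩ := exists_mini (inv_top (τ := τ)) htop
    obtain ⟨N, hN1, hN2⟩ := maschke hPF (horth W hW.1)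
    have hN0 : N ≠ ⊥ := by
      rintro rfl
      have h1 : orth hF W = ⊤ := by simpa only [_root_.bot_le, _root_.sup_of_le_left] using hN2.sup_eq_top
      apply hW.2.1
      rw [eq_bot_iff]
      intro w hw
      rw [Submodule.mem_bot]
      exact herm_nondeg hF fun v => (h1 ▸ Submodule.mem_top : v ∈ orth hF W) w hw
    obtain ⟨W', hW'N, hW'⟩ := exists_mini hN1 hN0
    have h2 : W' ⊓ orth hF W = ⊥ := by
      rw [eq_bot_iff, ← hN2.symm.inf_eq_bot]
      exact inf_le_inf_right _ hW'N
    refine ⟨W, W', hW, hW', ?_, h2, Or.inr ⟨hiso W hW, hiso W' hW'⟩⟩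
    rcases hW.2.2 _ inf_le_left (hW.1.inf (horth W' hW'.1)) with h | h
    · exact h
    · exfalso
      have h3 := le_orth_comm (inf_eq_left.1 h)
      rw [inf_eq_left.2 h3] at h2
      exact hW'.2.1 h2

theorem isCompl_of_pair (hF : Fintype.card F = q ^ 2) {W W' : Submodule F (Fin n → F)} (h1 : W ⊓ orth hF W' = ⊥)
    (h2 : W' ⊓ orth hF W = ⊥) : IsCompl W (orth hF W') := by
  have hd1 : Disjoint W (orth hF W') := disjoint_iff.2 h1
  have hd2 : Disjoint W' (orth hF W) := disjoint_iff.2 h2
  have e1 := Submodule.finrank_add_finrank_le_of_disjoint hd1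
  have e2 := Submodule.finrank_add_finrank_le_of_disjoint hd2
  have e3 := finrank_orth_ge hF W
  have e4 := finrank_orth_ge hF W'
  rw [Module.finrank_fin_fun] at e1 e2
  refine (Submodule.isCompl_iff_disjoint _ _ ?_).2 hd1
  rw [Module.finrank_fin_fun]
  omega

/-- **Main geometric lemma.** A unitary endomorphism centralizing `P` of determinant `δ ^ (p ^ a)`. -/
theorem exists_unitary {p : ℕ} [hp : Fact p.Prime] (hp2 : p ≠ 2) (hF : Fintype.card F = q ^ 2) {P : Type w} [Group P]
    [Finite P] (hP : IsPGroup p P) (hpF : (p : F) ≠ 0) (τ : P →* ((Fin n → F) ≃ₗ[F] (Fin n → F)))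
    (hτ : ∀ (g : P) (u v : Fin n → F), hermForm n F q (τ g u) (τ g v) = hermForm n F q u v) (hn : n ≠ 0) {δ : F}
    (hδ : δ * δ ^ q = 1) :
    ∃ (a : ℕ) (c : Module.End F (Fin n → F)), (∀ u v, hermForm n F q (c u) (c v) = hermForm n F q u v) ∧ Com τ c ∧
      LinearMap.det c = δ ^ (p ^ a) := by
  classical
  obtain ⟨d, hd0, hd⟩ := exists_h90 hF hδ
  obtain ⟨W, W', hW, hW', h1, h2, h3⟩ := exists_pair hF hP hpF hτ hn
  have hc1 := isCompl_of_pair hF h1 h2
  have hc2 := isCompl_of_pair hF h2 h1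
  have horth : ∀ U : Submodule F (Fin n → F), Inv τ U → Inv τ (orth hF U) := by
    intro U hU g v hv u hu
    have h1 := hv (τ g⁻¹ u) (hU g⁻¹ u hu)
    rw [← hτ g, apply_inv_apply] at h1
    exact h1
  -- the double orthogonal
  have hoo : ∀ x, (∀ u ∈ orth hF W', hermForm n F q u x = 0) → x ∈ W' := by
    intro x hx
    obtain ⟨w', hw', u, hu, rfl⟩ := eq_add hc2 x
    have hu0 : u = 0 := by
      refine herm_nondeg_right hF fun v => ?_
      obtain ⟨w, hw, t, ht, rfl⟩ := eq_add hc1 v
      rw [herm_add_left, hu w hw, zero_add]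
      have h4 := hx t ht
      rw [herm_add_right hF, herm_eq_zero_swap hF (ht w' hw'), zero_add] at h4
      exact h4
    rw [hu0, add_zero]
    exact hw'
  have hWf : Finite W := inferInstance
  have hWn : Nontrivial W := Submodule.nontrivial_iff_ne_bot.2 hW.2.1
  obtain ⟨a, y, hy, hydet⟩ := exists_end hp2 hP (irr_res hW) d
  let X := extd hc1 y
  have hXcom : Com τ X := extd_com hc1 hW.1 (horth W' hW'.1) hy
  have hXdet : LinearMap.det X = d ^ (p ^ a) := (det_extd hc1).trans hydet
  obtain ⟨X', hX', hX'det⟩ := exists_adj hF X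
  have hXX : ∀ u v, hermForm n F q (X' u) v = hermForm n F q u (X v) := by
    intro u v
    rw [herm_swap hF v, ← hX', ← herm_swap hF]
  have hX'com : Com τ X' := by
    intro g v
    refine eq_of_herm hF fun u => ?_
    rw [← hX', ← apply_inv_apply (τ := τ) g (X u), hτ, ← hXcom, hX', ← hτ g, apply_inv_apply]
  -- `X'` is `1` on the orthogonal of `W`, and preserves `W'`
  have hX'1 : ∀ v ∈ orth hF W, X' v = v := by
    intro v hv
    refine eq_of_herm hF fun u => ?_
    rw [← hX', ← sub_eq_zero, ← herm_sub_left]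
    exact hv _ (extd_sub_mem hc1 y u)
  have hX'2 : ∀ v ∈ W', X' v ∈ W' := by
    intro v hv
    refine hoo _ fun u hu => ?_
    rw [← hX', extd_right hc1 y hu]
    exact herm_eq_zero_swap hF (hu v hv)
  have hcomm : X * X' = X' * X := by
    rcases h3 with h3 | ⟨h3, h4⟩
    · subst h3
      -- both preserve `W` and are `1` on its orthogonal
      have hXW : ∀ w ∈ W', X w ∈ W' := fun w hw => by
        rw [show X w = y ⟨w, hw⟩ from extd_left hc1 y ⟨w, hw⟩]
        exact (y _).2
      let y' : Module.End F W' := X'.restrict hX'2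
      have hy' : Com (res τ W' hW.1) y' := fun g w => Subtype.ext (hX'com g w)
      have hyy := end_comm (irr_res hW) hy hy'
      refine LinearMap.ext fun v => ?_
      obtain ⟨w, hw, t, ht, rfl⟩ := eq_add hc1 v
      rw [Module.End.mul_apply, Module.End.mul_apply, map_add, map_add, map_add, map_add, hX'1 t ht,
        show X t = t from extd_right hc1 y ht, hX'1 t ht]
      congr 1
      have h5 := congrArg (fun f : Module.End F W' => ((f ⟨w, hw⟩ : W') : Fin n → F)) hyy
      have h6 : X (X' w) = y (y' ⟨w, hw⟩) := extd_left hc1 y (y' ⟨w, hw⟩)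
      have h7 : X w = y ⟨w, hw⟩ := extd_left hc1 y ⟨w, hw⟩
      rw [h6, h7]
      exact h5
    · refine LinearMap.ext fun v => ?_
      obtain ⟨w', hw', t, ht, rfl⟩ := eq_add hc2 v
      rw [Module.End.mul_apply, Module.End.mul_apply, map_add, map_add, map_add, map_add]
      congr 1
      · have h5 : X w' = w' := extd_right hc1 y (h4 hw')
        have h6 : X (X' w') = X' w' := extd_right hc1 y (h4 (hX'2 w' hw'))
        rw [h5, h6]
      · rw [hX'1 t ht]
        have h5 : X t ∈ orth hF W := by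
          have h6 := (orth hF W).add_mem (h3 (extd_sub_mem hc1 y t)) ht
          rwa [sub_add_cancel] at h6
        exact (hX'1 _ h5).symm
  -- the inverse of `X'`
  have hu' : IsUnit X' := by
    rw [LinearMap.isUnit_iff_isUnit_det, hX'det, hXdet]
    exact (IsUnit.mk0 _ hd0).pow _ |>.pow _
  obtain ⟨⟨x', Y, e1, e2⟩, rfl⟩ := hu'
  simp only at hX' hXX hX'com hX'1 hX'2 hcomm hX'det
  have f1 : ∀ v, x' (Y v) = v := fun v => congrArg (fun f : Module.End F (Fin n → F) => f v) e1
  have f2 : ∀ v, Y (x' v) = v := fun v => congrArg (fun f : Module.End F (Fin n → F) => f v) e2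
  have f3 : ∀ v, X (x' v) = x' (X v) := fun v => congrArg (fun f : Module.End F (Fin n → F) => f v) hcomm
  refine ⟨a, X * Y, ?_, ?_, ?_⟩
  · intro u v
    rw [Module.End.mul_apply, Module.End.mul_apply, hX', ← f3, f1, ← hXX, f1]
  · intro g v
    rw [Module.End.mul_apply, Module.End.mul_apply, ← hXcom]
    congr 1
    rw [← f2 (τ g (Y v)), hX'com, f1]
  · have hYdet : (LinearMap.det x') * (LinearMap.det Y) = 1 := by
      rw [← map_mul, e1, map_one]
    rw [map_mul, hXdet]
    rw [hX'det, hXdet] at hYdet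
    have h8 : δ ^ (p ^ a) * (d ^ p ^ a) ^ q = d ^ p ^ a := by
      rw [← pow_mul, mul_comm (p ^ a) q, pow_mul, ← mul_pow, hd]
    calc d ^ p ^ a * LinearMap.det Y = δ ^ (p ^ a) * ((d ^ p ^ a) ^ q * LinearMap.det Y) := by
          rw [← mul_assoc, h8]
      _ = _ := by rw [hYdet, mul_one]

end Cfsg.Agent.H107.AutU
end

-- part: H107/AutU/Main
section
/-!
# S4822 AO2: `AbOut` for the unitary groups (helper107)

`ab_psu` : for `p ≥ 5` prime to `q`, the automorphism groups `A ≥ Inn(S)` of `S = PSU_n(q)` of index prime to `p` are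
commutative modulo `Inn(S)` and the automorphisms which centralize a Sylow `p`-subgroup.
-/

set_option autoImplicit false

namespace Cfsg.Agent.H107.AutU

open Cfsg Matrix Cfsg.Agent.LieClassical.HermBasic Cfsg.Agent.LieClassical.HermSiegel
  Cfsg.Agent.ClassicalGeometry.PSUAutCount Cfsg.Agent.Schreier.PSU Cfsg.Agent.H508.KB
open Cfsg.Agent.ClassicalGeometry.UnitAutBasic (pr pr_surjective)

universe u

section

variable {F : Type*} [Field F] [Fintype F] {q n : ℕ}

/-- the determinant -/
def dt (n : ℕ) (F : Type*) [Field F] (q : ℕ) : GU n F q →* Fˣ :=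
  (Matrix.GeneralLinearGroup.det).comp (GU n F q).subtype

omit [Fintype F] in
theorem coe_dt (B : GU n F q) : ((dt n F q B : Fˣ) : F) = (gm B).det := rfl

theorem dt_norm (hF : Fintype.card F = q ^ 2) (B : GU n F q) :
    ((dt n F q B : Fˣ) : F) * ((dt n F q B : Fˣ) : F) ^ q = 1 := by
  rw [coe_dt, ← pow_succ']
  exact ClassicalGeometry.GUBasic.det_pow hF (A := gm B) (fun u v => herm_gm B u v)

omit [Fintype F] in
theorem dt_sc (c : {c : F // c * c ^ q = 1}) : ((dt n F q (sc n c) : Fˣ) : F) = c.1 ^ n := by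
  have h1 : gm (sc n c) = c.1 • (1 : Matrix (Fin n) (Fin n) F) := by
    have := gm_sc_mul c (1 : GU n F q)
    rwa [mul_one, gm_one] at this
  rw [coe_dt, h1, Matrix.det_smul, Matrix.det_one, mul_one, Fintype.card_fin]

omit [Fintype F] in
/-- the elements of determinant one -/
theorem exists_conj_of_dt (B : GU n F q) (h : dt n F q B = 1) : ∃ g : SU n F q, f₁ B = MulAut.conj (pr n F q g) := by
  have hdet : (gm B).det = 1 := by rw [← coe_dt, h]; rfl
  let g : SU n F q := mkSU (gm B) hdet (fun u v => herm_gm _ u v)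
  exact ⟨g, f₁_eq_conj B g rfl⟩

omit [Fintype F] in
theorem f₁_sc_mul (c : {c : F // c * c ^ q = 1}) (A : GU n F q) : f₁ (sc n c * A) = (f₁ A : MulAut (PSU n F q)) :=
  toAut_sc_mul c A 1

/-- the natural module -/
def natRep (Q : Subgroup (SU n F q)) : Q →* ((Fin n → F) ≃ₗ[F] (Fin n → F)) :=
  Matrix.SpecialLinearGroup.toLin'.comp ((SU n F q).subtype.comp Q.subtype)

/-- an element of `GU` centralizing `Q`, of determinant `δ ^ (p ^ a)` -/
theorem exists_cent {p : ℕ} [Fact p.Prime] (hp2 : p ≠ 2) (hF : Fintype.card F = q ^ 2) (hn : n ≠ 0) (hpF : (p : F) ≠ 0)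
    {Q : Subgroup (SU n F q)} (hQ : IsPGroup p Q) {δ : Fˣ} (hδ : (δ : F) * (δ : F) ^ q = 1) :
    ∃ (a : ℕ) (C : GU n F q), (∀ g ∈ Q, gm C * mat g = mat g * gm C) ∧ dt n F q C = δ ^ (p ^ a) := by
  classical
  have hfin : Finite Q := by
    have : Finite (SU n F q) := Finite.of_injective (mat : SU n F q → _) mat_injective
    infer_instance
  obtain ⟨a, c, hc1, hc2, hc3⟩ := exists_unitary hp2 hF hQ hpF (natRep Q) (fun g u v => g.1.2 u v) hn hδ
  have h1 : ∀ v, (LinearMap.toMatrix' c) *ᵥ v = c v := fun v => by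
    rw [← Matrix.toLin'_apply, Matrix.toLin'_toMatrix']
  obtain ⟨C0, hC0, hC⟩ := ClassicalGeometry.HermOrtho.exists_GU_of_isometry hF (M := LinearMap.toMatrix' c)
    (fun u v => by rw [h1, h1, hc1])
  have h2 : gm (⟨C0, hC0⟩ : GU n F q) = LinearMap.toMatrix' c := hC
  refine ⟨a, ⟨C0, hC0⟩, ?_, ?_⟩
  · intro g hg
    apply Matrix.ext_of_mulVec_single
    intro i
    rw [h2, ← mulVec_mulVec, ← mulVec_mulVec, h1, h1]
    exact hc2 ⟨g, hg⟩ _
  · apply Units.ext
    rw [coe_dt, h2, LinearMap.det_toMatrix', hc3, Units.val_pow_eq_pow_val]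

omit [Fintype F] in
/-- elements commuting with `Q` fix its image in `PSU` -/
theorem f₁_fix {C : GU n F q} {g : SU n F q} (h : gm C * mat g = mat g * gm C) :
    (f₁ C : MulAut (PSU n F q)) (pr n F q g) = pr n F q g := by
  change toAut C 1 (pr n F q g) = _
  rw [Schreier.PSU.toAut_pr']
  congr 1
  apply mat_injective
  rw [H202.Psu.mat_semiConj_one, h, Matrix.mul_assoc, gm_mul_inv, Matrix.mul_one]

end

/-- `AbOut` for `PSU_n(q)` -/
theorem abOut_psu {p : ℕ} [hp : Fact p.Prime] (hp2 : p ≠ 2) {F : Type*} [Field F] [Fintype F] {q n : ℕ}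
    (hF : Fintype.card F = q ^ 2) (hn : 3 ≤ n) (h32 : ¬ (n = 3 ∧ q = 2)) (hpF : (p : F) ≠ 0) :
    AbOut p (PSU n F q) := by
  classical
  have hfin : Finite (SU n F q) := Finite.of_injective (mat : SU n F q → _) mat_injective
  have hN : ((f₁ (F := F) (q := q) (n := n)).range).Normal := by
    have := H202.Psu.inndiag_normal hF hn h32
    rwa [H202.Psu.inndiag_eq] at this
  refine H845.KB.abOut_of (f₁ (F := F) (q := q) (n := n)).range ?_ ?_
  · intro α β
    obtain ⟨A, ρ, rfl⟩ := ClassicalGeometry.PSUAutMain.exists_toAut hF hn h32 α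
    obtain ⟨B, σ, rfl⟩ := ClassicalGeometry.PSUAutMain.exists_toAut hF hn h32 β
    rw [← QuotientGroup.eq_one_iff, QuotientGroup.mk_mul, QuotientGroup.mk_mul, QuotientGroup.mk_mul,
      QuotientGroup.mk_inv, QuotientGroup.mk_inv, toAut_eq, toAut_eq, QuotientGroup.mk_mul, QuotientGroup.mk_mul]
    have h1 : ∀ A : GU n F q, ((f₁ A : MulAut (PSU n F q)) : MulAut (PSU n F q) ⧸ f₁.range) = 1 := fun A =>
      (QuotientGroup.eq_one_iff _).2 ⟨A, rfl⟩
    rw [h1, h1, one_mul, one_mul, ← QuotientGroup.mk_mul, ← map_mul, H202.Psu.f₂_comm ρ σ, map_mul,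
      QuotientGroup.mk_mul]
    group
  · rintro P _ ⟨B, rfl⟩ m hm ⟨x, hx⟩
    obtain ⟨g, rfl⟩ := pr_surjective x
    obtain ⟨Q, hQ, hQP⟩ := H845.KB.exists_lift_sylow (pr n F q) pr_surjective P
    -- `B ^ m = c g`
    obtain ⟨G0, hG0, hG⟩ := ClassicalGeometry.HermOrtho.exists_GU_of_isometry hF (M := mat g)
      (fun u v => herm_act g u v)
    let G : GU n F q := ⟨G0, hG0⟩
    have hGm : gm G = mat g := hG
    have h1 : toAut G 1 = toAut (B ^ m) 1 := by
      have e1 := f₁_eq_conj G g hGm
      have e2 : (f₁ (B ^ m) : MulAut (PSU n F q)) = MulAut.conj (pr n F q g) := by rw [map_pow]; exact hx.symm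
      exact e1.trans e2.symm
    obtain ⟨-, c, hc, hcm⟩ := eq_of_toAut_eq hF hn h1
    have hc0 : c ≠ 0 := by
      rintro rfl
      rw [zero_mul] at hc
      exact zero_ne_one hc
    have h2 : (dt n F q B) ^ m = (Units.mk0 c hc0) ^ n := by
      rw [← map_pow]
      apply Units.ext
      rw [coe_dt, hcm, hGm, Matrix.det_smul, Fintype.card_fin, Units.val_pow_eq_pow_val, Units.val_mk0]
      have h3 : (mat g).det = 1 := (g : _root_.Matrix.SpecialLinearGroup (Fin n) F).det_coe
      rw [h3, mul_one]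
    obtain ⟨a, C, hC1, hC2⟩ := exists_cent hp2 hF (by omega) hpF hQ (dt_norm hF B)
    -- Bezout
    have hcop : IsCoprime ((p ^ a : ℕ) : ℤ) (m : ℤ) := by
      rw [Nat.isCoprime_iff_coprime]
      exact Nat.Coprime.pow_left _ ((Nat.Prime.coprime_iff_not_dvd hp.out).2 hm)
    obtain ⟨u, v, huv⟩ := hcop
    have hcv : c ^ v * (c ^ v) ^ q = 1 := by
      rw [← zpow_natCast (c ^ v), ← _root_.zpow_mul, mul_comm v, _root_.zpow_mul, ← mul_zpow, zpow_natCast, hc, _root_.one_zpow]
    let D : GU n F q := sc n ⟨c ^ v, hcv⟩ * C ^ u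
    have hD : dt n F q D = dt n F q B := by
      have e1 : dt n F q (sc n ⟨c ^ v, hcv⟩) = (Units.mk0 c hc0 ^ v) ^ n := by
        apply Units.ext
        rw [dt_sc, Units.val_pow_eq_pow_val, Units.val_zpow_eq_zpow_val, Units.val_mk0]
      have e2 : (Units.mk0 c hc0 ^ v) ^ n = dt n F q B ^ (v * (m : ℤ)) := by
        rw [← zpow_natCast, ← _root_.zpow_mul, mul_comm v (n : ℤ), _root_.zpow_mul, zpow_natCast, ← h2, ← zpow_natCast, ← _root_.zpow_mul,
          mul_comm]
      rw [map_mul, map_zpow, hC2, e1, e2, ← zpow_natCast, ← _root_.zpow_mul, ← _root_.zpow_add, mul_comm ((p ^ a : ℕ) : ℤ) u,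
        add_comm, huv, zpow_one]
    obtain ⟨s, hs⟩ := exists_conj_of_dt (B * D⁻¹) (by rw [map_mul, map_inv, hD, mul_inv_cancel])
    refine ⟨pr n F q s, fun x hx => ?_⟩
    obtain ⟨t, ht, rfl⟩ := hQP x hx
    have h3 : (f₁ D : MulAut (PSU n F q)) (pr n F q t) = pr n F q t := by
      have e1 : (f₁ D : MulAut (PSU n F q)) = (f₁ C) ^ u := by
        rw [f₁_sc_mul, map_zpow]
      have e2 : (f₁ C : MulAut (PSU n F q)) ∈ MulAction.stabilizer (MulAut (PSU n F q)) (pr n F q t) := f₁_fix (hC1 t ht)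
      rw [e1]
      exact Subgroup.zpow_mem _ e2 u
    have h4 : (f₁ B : MulAut (PSU n F q)) = MulAut.conj (pr n F q s) * f₁ D := by
      rw [← hs, ← map_mul, inv_mul_cancel_right]
    rw [h4, MulAut.mul_apply, h3, MulAut.conj_apply]

variable {p : ℕ} [hp : Fact p.Prime]

/-- **AO2** -/
theorem ab_psu {S : Type u} [Group S] {r : ℕ} [hr : Fact r.Prime] (hrp : r ≠ p) (h5 : 5 ≤ p) (h : IsPSUChar r S) :
    AbOut p S := by
  obtain ⟨F, iF, iF', iC, n, q, hF, hn, h32, ⟨e⟩⟩ := h
  have hfin : Finite (SU n F q) := Finite.of_injective (mat : SU n F q → _) mat_injective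
  have hfin' : Finite (PSU n F q) := Finite.of_surjective (pr n F q) pr_surjective
  have hfinS : Finite S := Finite.of_equiv _ e.symm.toEquiv
  refine H845.KB.abOut_congr e (abOut_psu (by omega) hF hn h32 ?_)
  intro h0
  rw [CharP.cast_eq_zero_iff F r p] at h0
  exact hrp ((Nat.prime_dvd_prime_iff_eq hr.out hp.out).1 h0)

end Cfsg.Agent.H107.AutU
end

private theorem dce_a2191d89bf7f : _root_.True := by
  try have : _root_.True := by simp only [_root_.Cfsg.Agent.H107.AutU.res.congr_simp]
  try have : _root_.True := by simp only [_root_.Cfsg.Agent.H107.AutU.orth.congr_simp]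
  exact _root_.True.intro
end

-- part: H806/KB/SpRow
section
set_option linter.all false
open scoped Cfsg.Agent.FastGrp

/-!
# S4822, task KB3: `PSp_2m(q)` in cross characteristic (helper806)

`psp_of_core` : `p ≤ k(B₀(PSp_2m(q)))` from the elements of helper418's `core`.
-/

set_option autoImplicit false

open Cfsg Module Subgroup

namespace Cfsg.Agent.H806.KB

open Cfsg.Agent.H418.KB
open Cfsg.Agent.BpCl (Iso mem_Iso)
open Cfsg.Agent.ClassicalGeometry.SympBasic Cfsg.Agent.ClassicalGeometry.SympAutSemi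
  Cfsg.Agent.ClassicalGeometry.SympGamma

universe u

/-- the isometries of a nondegenerate alternating form -/
theorem spl_alt {F V : Type*} [Field F] [AddCommGroup V] [Module F V] {B : V →ₗ[F] V →ₗ[F] F} (h0 : ∀ v, B v v = 0)
    (hnd : ∀ u, (∀ v, B u v = 0) → u = 0) : Spl B (Iso fun u v => B u v) where
  sgn := Or.inr h0
  nd := hnd
  pres := fun _ hg => hg
  split := by
    intro g hg g' U W hUW hB hgU hU hW a b
    have hs : ∀ u v, B u v = - B v u := by
      intro u v
      have h1 := h0 (u + v)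
      rw [map_add, map_add, LinearMap.add_apply, LinearMap.add_apply, h0 u, h0 v, zero_add, add_zero] at h1
      rw [eq_neg_iff_add_eq_zero, add_comm]
      exact h1
    obtain ⟨u1, hu1, w1, hw1, rfl⟩ := Submodule.mem_sup.1 (show a ∈ U ⊔ W by rw [hUW]; trivial)
    obtain ⟨u2, hu2, w2, hw2, rfl⟩ := Submodule.mem_sup.1 (show b ∈ U ⊔ W by rw [hUW]; trivial)
    change B (g' (u1 + w1)) (g' (u2 + w2)) = B (u1 + w1) (u2 + w2)
    rw [map_add g', map_add g', hU u1 hu1, hU u2 hu2, hW w1 hw1, hW w2 hw2]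
    simp only [map_add, LinearMap.add_apply]
    rw [hB u1 hu1 w2 hw2, hB (g u1) (hgU u1 hu1) w2 hw2, hs w1 u2, hB u2 hu2 w1 hw1, hs w1 (g u2),
      hB (g u2) (hgU u2 hu2) w1 hw1]
    have h1 : B (g u1) (g u2) = B u1 u2 := hg u1 u2
    rw [h1]
  full := fun _ _ _ hc _ _ _ _ => hc

section symp

variable (m : ℕ) (F : Type*) [Field F]

/-- the symplectic group as a group of linear automorphisms -/
abbrev Gam : Subgroup ((Fin m ⊕ Fin m → F) ≃ₗ[F] (Fin m ⊕ Fin m → F)) := Iso fun u v => sympBilin m F u v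

theorem range_spLin : (Cfsg.Agent.BpCl.spLin m F).range = Gam m F := by
  apply le_antisymm
  · rintro _ ⟨A, rfl⟩ u v
    exact sympForm_rho A u v
  · intro h hh
    obtain ⟨A, hA⟩ := exists_rho_eq h.toEquiv (fun u v => map_add h u v) (fun a v => map_smul h a v)
      (fun u v => hh u v)
    refine ⟨A, ?_⟩
    apply LinearEquiv.ext
    intro v
    rw [Cfsg.Agent.BpCl.spLin_apply, hA]
    rfl

noncomputable def eSp : ↥(Matrix.symplecticGroup (Fin m) F) ≃* ↥(Gam m F) :=
  (MonoidHom.ofInjective Cfsg.Agent.BpCl.spLin_injective).trans (MulEquiv.subgroupCongr (range_spLin m F))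

variable {m F}

theorem sq_center_Gam {z : ↥(Gam m F)} (hz : z ∈ center ↥(Gam m F)) : z ^ 2 = 1 := by
  have h1 : (eSp m F).symm z ∈ center ↥(Matrix.symplecticGroup (Fin m) F) := by
    rw [mem_center_iff]
    intro g
    apply (eSp m F).injective
    rw [map_mul, map_mul, (eSp m F).apply_symm_apply]
    exact mem_center_iff.1 hz _
  have h2 := Cfsg.Agent.H952.Rc.sq_center h1
  rw [← map_pow] at h2
  have h3 := congrArg (eSp m F) h2
  rwa [(eSp m F).apply_symm_apply, map_one] at h3

theorem not_dvd_center_Gam [Finite F] {p : ℕ} [hp : Fact p.Prime] (h2 : 2 < p) : ¬ p ∣ Nat.card (center ↥(Gam m F)) := by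
  have hfin : Finite ↥(Gam m F) := Finite.of_equiv _ (eSp m F).toEquiv
  intro h
  obtain ⟨z, hz⟩ := exists_prime_orderOf_dvd_card' (G := center ↥(Gam m F)) p h
  have h3 : z ^ 2 = 1 := Subtype.ext (by simpa using sq_center_Gam z.2)
  have h4 := orderOf_dvd_of_pow_eq_one h3
  rw [hz] at h4
  exact absurd (Nat.le_of_dvd two_pos h4) (by omega)

end symp

section row

variable {F : Type} [Field F] [Fintype F] {m : ℕ} {p : ℕ} [Fact p.Prime] {M : Ideal AlgInt}

theorem psp_of_core (hM : IsPModular p M) (h2 : 2 < p) (hpF : (p : F) ≠ 0)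
    {x y : (Fin m ⊕ Fin m → F) ≃ₗ[F] (Fin m ⊕ Fin m → F)} (h : Core p (Gam m F) x y) :
    p ≤ Nat.card (principalBlock M (PSp m F)) := by
  have hG : Spl (sympBilin m F) (Gam m F) :=
    spl_alt (fun v => sympForm_self v) fun u hu => eq_zero_of_forall_sympForm_right hu
  have h1 := kB_of_core hM hG hpF h (center ↥(Gam m F)) (not_dvd_center_Gam h2)
  rw [H590.RankSum.card_congr (Cfsg.Agent.LieClassical.OrthFinite.quotientCenterCongr (eSp m F)).symm] at h1
  exact h1

/-- the Sylow `p`-subgroups of `PSp` are not cyclic, hence a Sylow `p`-subgroup of the symplectic group is not cyclic -/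
theorem exists_noncyclic {S : Type u} [Group S] [Finite S] (e : S ≃* PSp m F)
    (hP : ∀ P : Sylow p S, ¬ IsCyclic (P : Subgroup S)) :
    ∃ P : Subgroup ((Fin m ⊕ Fin m → F) ≃ₗ[F] (Fin m ⊕ Fin m → F)), P ≤ Gam m F ∧ IsPGroup p P ∧ ¬ IsCyclic P := by
  have hfin : Finite ↥(Gam m F) := Finite.of_equiv _ (eSp m F).toEquiv
  obtain ⟨P⟩ : Nonempty (Sylow p ↥(Gam m F)) := inferInstance
  refine ⟨(P : Subgroup ↥(Gam m F)).map (Gam m F).subtype, ?_, P.2.map _, fun hc => ?_⟩
  · rintro _ ⟨g, -, rfl⟩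
    exact g.2
  · let φ : ↥(Gam m F) →* S := (((Cfsg.Agent.LieClassical.OrthFinite.quotientCenterCongr (eSp m F)).symm.trans
      e.symm).toMonoidHom).comp (QuotientGroup.mk' (center ↥(Gam m F)))
    have hφ : Function.Surjective φ :=
      (((Cfsg.Agent.LieClassical.OrthFinite.quotientCenterCongr (eSp m F)).symm.trans e.symm).surjective).comp
        (QuotientGroup.mk'_surjective _)
    have hc' : IsCyclic (P : Subgroup ↥(Gam m F)) :=
      isCyclic_of_injective (((P : Subgroup ↥(Gam m F)).equivMapOfInjective _ (Gam m F).subtype_injective).toMonoidHom)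
        (MulEquiv.injective _)
    apply hP (P.mapSurjective hφ)
    rw [Sylow.coe_mapSurjective]
    exact isCyclic_of_surjective _ (φ.subgroupMap_surjective (P : Subgroup ↥(Gam m F)))

end row

/-- **S4822, KB3** from the existence of the elements of `core` -/
theorem kb_psp_of {p : ℕ} [Fact p.Prime] {M : Ideal AlgInt}
    (hcore : ∀ (F V : Type) [Field F] [Fintype F] [AddCommGroup V] [Module F V] [FiniteDimensional F V]
      (B : V →ₗ[F] V →ₗ[F] F) (G : Subgroup (V ≃ₗ[F] V)), Spl B G → ¬ p ∣ Fintype.card F →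
      ∀ P : Subgroup (V ≃ₗ[F] V), P ≤ G → IsPGroup p P → ¬ IsCyclic P → ∃ x y, Core p G x y)
    {S : Type u} [Group S] [Finite S] [IsSimpleGroup S]
    {r : ℕ} [Fact r.Prime] (hrp : r ≠ p) (h11 : 11 ≤ p) (hM : IsPModular p M) (h : IsPSpChar r S)
    (hP : ∀ P : Sylow p S, ¬ IsCyclic (P : Subgroup S)) : p ≤ H508.KB.kB M S := by
  have hp : p.Prime := Fact.out
  have hr : r.Prime := Fact.out
  obtain ⟨F, _, _, hch, m, -, -, ⟨e⟩⟩ := h
  have hpF : (p : F) ≠ 0 := by
    intro h0
    rw [CharP.cast_eq_zero_iff F r] at h0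
    exact hrp ((Nat.prime_dvd_prime_iff_eq hr hp).1 h0)
  have hpq : ¬ p ∣ Fintype.card F := by
    obtain ⟨f, -, hf⟩ := FiniteField.card F r
    rw [hf]
    intro h0
    exact hrp ((Nat.prime_dvd_prime_iff_eq hp hr).1 (hp.dvd_of_dvd_pow h0)).symm
  unfold H508.KB.kB
  rw [H590.RankSum.card_congr e]
  obtain ⟨P, hPG, hPp, hPc⟩ := exists_noncyclic e hP
  obtain ⟨x, y, hxy⟩ := hcore F (Fin m ⊕ Fin m → F) (sympBilin m F) (Gam m F)
    (spl_alt (fun v => sympForm_self v) fun u hu => eq_zero_of_forall_sympForm_right hu) hpq P hPG hPp hPc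
  exact psp_of_core hM (by omega) hpF hxy

end Cfsg.Agent.H806.KB
end

-- part: H626/ExtB/Chev
section
set_option linter.all false
open scoped Cfsg.Agent.FastGrp

-- part: H626/ExtB/BN
section
/-!
# `Stable` for the Borel subgroup of a group with a (B, N)-pair (helper626)

* `double_of_fix`: an automorphism which preserves `B` and the minimal parabolic subgroups preserves all the double
  cosets `B w B`;
* `stable_of_bn`: `Stable P.B` if the class of `B` is invariant under the automorphisms and the automorphisms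
  preserving `B` preserve the minimal parabolic subgroups;
* `stable_of_rigid`: the same if the diagram has no symmetry.
-/

set_option autoImplicit false
set_option linter.unusedSectionVars false

open Cfsg Subgroup
open scoped Pointwise

namespace Cfsg.Agent.H626.ExtB.BN

open Cfsg.Agent.S0309 Cfsg.Agent.Schreier.BNSch Cfsg.Agent.Schreier.BNGraph Cfsg.Agent.H626.ExtB.Perm

universe u

variable {K : Type u} [Group K]

theorem map_mem {B : Subgroup K} {α : MulAut K} (hB : B.map α.toMonoidHom = B) {x : K} (hx : x ∈ B) : α x ∈ B := by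
  rw [← hB]
  exact ⟨x, hx, rfl⟩

theorem mem_of_map {B : Subgroup K} {α : MulAut K} (hB : B.map α.toMonoidHom = B) {x : K} (hx : α x ∈ B) : x ∈ B := by
  rw [← hB] at hx
  obtain ⟨y, hy, he⟩ := hx
  rwa [← α.injective he]

/-- The double cosets are preserved (elements of `N`). -/
theorem word_of_fix (P : BNPair K) (α : MulAut K) (hB : P.B.map α.toMonoidHom = P.B)
    (hfix : ∀ s ∈ P.S, (P.parabolic {s}).map α.toMonoidHom = P.parabolic {s}) :
    ∀ (k : ℕ) (n : K), HasWord P k n → ∃ b ∈ P.B, ∃ b' ∈ P.B, α n = b * n * b'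
  | 0, n, h => ⟨α n * n⁻¹, mul_mem (map_mem hB h.1) (inv_mem h.1), 1, one_mem _, by group⟩
  | k + 1, n, h => by
    obtain ⟨s, hs, m, hm, rfl⟩ := h
    obtain ⟨c, hc, c', hc', hcm⟩ := word_of_fix P α hB hfix k m hm
    have hmN : m ∈ P.N := hm.mem P
    -- `α s ∈ B s B`
    have h1 : α s ∈ P.parabolic {s} := map_mem (hfix s hs) (mem_parabolic_self P s)
    rcases mem_parabolic_singleton P hs h1 with h2 | ⟨b, hb, b', hb', h2⟩
    · exact absurd (mem_of_map hB h2) (not_mem_B P hs)
    · have h3 : α (s * m) = b * (s * (b' * c) * m) * c' := by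
        rw [map_mul, h2, hcm]
        group
      rcases P.mul_mem_union s hs m hmN (b' * c) (mul_mem hb' hc) with h4 | h4
      · rw [DoubleCoset.mem_doubleCoset] at h4
        obtain ⟨u, hu, v, hv, huv⟩ := h4
        refine ⟨b * u, mul_mem hb hu, v * c', mul_mem hv hc', ?_⟩
        rw [h3, huv]
        group
      · exfalso
        rw [DoubleCoset.mem_doubleCoset] at h4
        obtain ⟨u, hu, v, hv, huv⟩ := h4
        -- `α (s m) = (b u) m (v c')`, `α m = c m c'`
        have h5 : α (s * m) = (b * u * c⁻¹) * α m * (c'⁻¹ * v * c') := by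
          rw [h3, huv, hcm]
          group
        obtain ⟨d, hd, hd'⟩ : ∃ d ∈ P.B, α d = b * u * c⁻¹ := by
          have : b * u * c⁻¹ ∈ P.B.map α.toMonoidHom := by
            rw [hB]
            exact mul_mem (mul_mem hb hu) (inv_mem hc)
          obtain ⟨d, hd, hd'⟩ := this
          exact ⟨d, hd, hd'⟩
        obtain ⟨e, he, he'⟩ : ∃ e ∈ P.B, α e = c'⁻¹ * v * c' := by
          have : c'⁻¹ * v * c' ∈ P.B.map α.toMonoidHom := by
            rw [hB]
            exact mul_mem (mul_mem (inv_mem hc') hv) hc'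
          obtain ⟨e, he, he'⟩ := this
          exact ⟨e, he, he'⟩
        have h6 : s * m = d * m * e := by
          apply α.injective
          rw [h5, ← hd', ← he', map_mul, map_mul]
        have h7 : s * m ∈ DoubleCoset.doubleCoset m (P.B : Set K) P.B := by
          rw [DoubleCoset.mem_doubleCoset]
          exact ⟨d, hd, e, he, h6⟩
        have h8 := (Cfsg.Agent.S0309.result P hmN (P.N.mul_mem (P.subset hs) hmN)).1
          (DoubleCoset.doubleCoset_eq_of_mem h7).symm
        -- `m⁻¹ s m ∈ B`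
        have h9 := P.conj_mem m hmN (m⁻¹ * (s * m))
          (Subgroup.mem_inf.2 ⟨h8, P.N.mul_mem (P.N.inv_mem hmN) (P.N.mul_mem (P.subset hs) hmN)⟩)
        have h10 : m * (m⁻¹ * (s * m)) * m⁻¹ = s := by group
        rw [h10] at h9
        exact not_mem_B P hs h9

/-- The double cosets are preserved. -/
theorem double_of_fix (P : BNPair K) (α : MulAut K) (hB : P.B.map α.toMonoidHom = P.B)
    (hfix : ∀ s ∈ P.S, (P.parabolic {s}).map α.toMonoidHom = P.parabolic {s}) (g : K) :
    ∃ b ∈ P.B, ∃ b' ∈ P.B, α g = b * g * b' := by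
  obtain ⟨n, hn, hg⟩ := Cfsg.Agent.S0308.result P g
  rw [DoubleCoset.mem_doubleCoset] at hg
  obtain ⟨x, hx, y, hy, rfl⟩ := hg
  obtain ⟨k, hk⟩ := exists_hasWord P hn
  obtain ⟨b, hb, b', hb', h⟩ := word_of_fix P α hB hfix k n hk
  refine ⟨α x * b * x⁻¹, mul_mem (mul_mem (map_mem hB hx) hb) (inv_mem hx), y⁻¹ * b' * α y,
    mul_mem (mul_mem (inv_mem hy) hb') (map_mem hB hy), ?_⟩
  rw [map_mul, map_mul, h]
  group

theorem map_eq_of_le [Finite K] {B : Subgroup K} {α : MulAut K} (h : ∀ x ∈ B, α x ∈ B) : B.map α.toMonoidHom = B := by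
  refine Subgroup.eq_of_le_of_card_ge ?_ ?_
  · rintro _ ⟨x, hx, rfl⟩
    exact h x hx
  · exact (Nat.card_congr (B.equivMapOfInjective α.toMonoidHom α.injective).toEquiv).le

/-- **`Stable` for the Borel subgroup.** -/
theorem stable_of_bn [Finite K] (P : BNPair K) (hcls : ∀ α : MulAut K, ∃ s : K, ∀ x ∈ P.B, s * α x * s⁻¹ ∈ P.B)
    (hfix : ∀ α : MulAut K, P.B.map α.toMonoidHom = P.B →
      ∀ s ∈ P.S, (P.parabolic {s}).map α.toMonoidHom = P.parabolic {s}) : Stable P.B := by
  refine ⟨?_, hcls, ?_⟩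
  · intro s hs
    have h1 := Cfsg.Agent.S0312.result P (J := ∅) (Set.empty_subset _)
    rw [parabolic_empty] at h1
    rw [← h1]
    exact mem_normalizer_fintype fun n hn => hs n hn
  · intro α hα g
    have h1 := map_eq_of_le hα
    exact double_of_fix P α h1 (hfix α h1) g

/-- The class of `B = N(U)` is invariant if `U` is a Sylow subgroup. -/
theorem cls_of_sylow [Finite K] (P : BNPair K) {r : ℕ} [Fact r.Prime] (U : Sylow r K)
    (hU : normalizer ((U : Subgroup K) : Set K) = P.B) (α : MulAut K) : ∃ s : K, ∀ x ∈ P.B, s * α x * s⁻¹ ∈ P.B := by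
  have hs : Function.Surjective α.toMonoidHom := α.surjective
  obtain ⟨g, hg⟩ := MulAction.exists_smul_eq K (Sylow.mapSurjective hs U) U
  have h0 : ((Sylow.mapSurjective hs U : Sylow r K) : Subgroup K) = (U : Subgroup K).map α.toMonoidHom :=
    Sylow.coe_mapSurjective hs U
  have h1 : ∀ y : K, y ∈ (U : Subgroup K) ↔ ∃ u ∈ (U : Subgroup K), g * α u * g⁻¹ = y := by
    intro y
    have h2 : (U : Subgroup K) = MulAut.conj g • (U : Subgroup K).map α.toMonoidHom := by
      rw [← h0, ← Sylow.coe_subgroup_smul, hg]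
    conv_lhs => rw [h2]
    constructor
    · intro hy
      obtain ⟨z, ⟨u, hu, rfl⟩, he⟩ := hy
      exact ⟨u, hu, he⟩
    · rintro ⟨u, hu, he⟩
      exact ⟨α u, ⟨u, hu, rfl⟩, he⟩
  refine ⟨g, fun x hx => ?_⟩
  rw [← hU] at hx ⊢
  refine mem_normalizer_fintype fun y hy => ?_
  obtain ⟨u, hu, rfl⟩ := (h1 y).1 hy
  refine (h1 _).2 ⟨x * u * x⁻¹, (Subgroup.mem_normalizer_iff.1 hx u).1 hu, ?_⟩
  rw [map_mul, map_mul, map_inv]
  group

/-- **`Stable` for the Borel subgroup, diagram without symmetries.** -/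
theorem stable_of_rigid [Finite K] (P : BNPair K) {r : ℕ} [Fact r.Prime] (U : Sylow r K)
    (hU : normalizer ((U : Subgroup K) : Set K) = P.B) {ι : Type*} [Finite ι] (s : ι → K) (hs : Set.range s = P.S)
    (hinj : Function.Injective s) (adj : ι → ι → Prop) (hirr : ∀ i, ¬ adj i i)
    (hadj : ∀ i j, i ≠ j → (adj i j ↔ s i * s j * (s i)⁻¹ * (s j)⁻¹ ∉ P.B))
    (hrig : ∀ σ : Equiv.Perm ι, (∀ i j, adj (σ i) (σ j) ↔ adj i j) → ∀ i, σ i = i) : Stable P.B := by
  refine stable_of_bn P (cls_of_sylow P U hU) fun α hα t ht => ?_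
  obtain ⟨σ, hσ, h1⟩ := exists_perm P s hs hinj adj hirr hadj α hα
  rw [← hs] at ht
  obtain ⟨i, rfl⟩ := ht
  rw [hσ i, hrig σ h1 i]

end Cfsg.Agent.H626.ExtB.BN
end

-- part: H626/ExtB/Chev
section
/-!
# `ExtB` for the Chevalley groups `E₇(q)` and `E₈(q)` (helper626)

`extB_E8`, `extB_E7`: `ExtB p M S` if `p` divides `|S|` but neither `q` nor `q - 1`.
-/

set_option autoImplicit false
set_option linter.unusedSectionVars false

open Cfsg Subgroup
open scoped Pointwise

namespace Cfsg.Agent.H626.ExtB.Chev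

open Cfsg.Lie Cfsg.Agent.ChevalleyStructure Cfsg.Agent.ChevalleyStructure.Elts
  Cfsg.Agent.ChevalleyStructure.NConj Cfsg.Agent.ChevalleyStructure.BNChev Cfsg.Agent.S1042
  Cfsg.Agent.Schreier.Basic Cfsg.Agent.Schreier.Tools Cfsg.Agent.Schreier.BNSch Cfsg.Agent.Schreier.BNUse
  Cfsg.Agent.Schreier.ChevLocal Cfsg.Agent.Schreier.ChevSch Cfsg.Agent.H508.KB Cfsg.Agent.H626.ExtB.Perm
  Cfsg.Agent.H626.ExtB.BN

universe u

/-! ### Graphs without symmetries -/

/-- the number of walks of length `k` starting at `i` -/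
def walk {n : ℕ} (A : Fin n → Fin n → Prop) [DecidableRel A] : ℕ → Fin n → ℕ
  | 0, _ => 1
  | k + 1, i => ∑ j : Fin n, if A i j then walk A k j else 0

theorem walk_perm {n : ℕ} (A : Fin n → Fin n → Prop) [DecidableRel A] (σ : Equiv.Perm (Fin n))
    (h : ∀ i j, A (σ i) (σ j) ↔ A i j) : ∀ k i, walk A k (σ i) = walk A k i
  | 0, _ => rfl
  | k + 1, i => by
    show ∑ j : Fin n, (if A (σ i) j then walk A k j else 0) = ∑ j : Fin n, if A i j then walk A k j else 0
    rw [← Equiv.sum_comp σ]
    refine Finset.sum_congr rfl fun j _ => ?_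
    rw [walk_perm A σ h k j]
    simp only [h]

theorem rigid_of_walk {n : ℕ} (A : Fin n → Fin n → Prop) [DecidableRel A] (k : ℕ)
    (hk : ∀ i j, walk A k i = walk A k j → i = j) (σ : Equiv.Perm (Fin n)) (h : ∀ i j, A (σ i) (σ j) ↔ A i j)
    (i : Fin n) : σ i = i := hk _ _ (walk_perm A σ h k i)

theorem walk_e8 : ∀ i j, walk (Cfsg.Agent.Schreier.Chev.adj chevE8) 3 i = walk (Cfsg.Agent.Schreier.Chev.adj chevE8) 3 j →
    i = j := by decide +kernel

theorem walk_e7 : ∀ i j, walk (Cfsg.Agent.Schreier.Chev.adj chevE7) 5 i = walk (Cfsg.Agent.Schreier.Chev.adj chevE7) 5 j →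
    i = j := by decide +kernel

/-! ### The (B, N)-pair of a tabulated Chevalley group -/

variable {D : ChevalleyDatum} (hD : InList D) (F : Type u) [Field F]

theorem exists_bn (hD : InList D) [Finite F] (r : ℕ) [Fact r.Prime] [CharP F r] :
    ∃ P : BNPair ↥(D.group F), P.B = BB D F ∧ P.S = Set.range (nn hD F) ∧
      ∃ U : Sylow r ↥(D.group F), (U : Subgroup ↥(D.group F)) = UU D F ∧
        normalizer ((U : Subgroup ↥(D.group F)) : Set ↥(D.group F)) = P.B := by
  classical
  have := Fintype.ofFinite F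
  obtain ⟨P, hPB, hPN, hPS⟩ := S1042.result (F := F) D hD
  have hPS' : P.S = Set.range (nn hD F) := by
    rw [hPS]
    ext g
    constructor
    · rintro ⟨i, hi, hg⟩
      exact ⟨⟨i, hi⟩, Subtype.ext ((eq_nG_iff hD _ _ _).2 hg).symm⟩
    · rintro ⟨i, rfl⟩
      exact ⟨i, i.2, coe_nG hD _ _⟩
  have hBU : ∀ b ∈ P.B, ∀ u ∈ UU D F, b * u * b⁻¹ ∈ UU D F := by
    intro b hb u hu
    rw [hPB] at hb
    exact conj_mem_UU F hD hb hu
  have hUB : UU D F ≤ P.B := by
    rw [hPB]
    exact UU_le F
  have hN : normalizer ((UU D F : Subgroup ↥(D.group F)) : Set ↥(D.group F)) = P.B := by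
    refine normalizer_eq P _ hUB hBU fun s hs => ?_
    rw [hPS'] at hs
    obtain ⟨i, rfl⟩ := hs
    refine ⟨xx hD i 1, xG_mem_posUnipotent hD (simple_pos hD i.2) 1, fun h => ?_⟩
    rw [hPB] at h
    exact one_ne_zero (eq_zero_of_xx_mem hD i
      (mem_VV_of_conj hD i (xG_mem_posUnipotent hD (simple_pos hD i.2) 1) h))
  have hcop : ¬ r ∣ (Fintype.card F - 1) ^ D.rank := by
    intro h
    have h1 := (Fact.out : r.Prime).dvd_of_dvd_pow h
    obtain ⟨n, -, hn⟩ := FiniteField.card F r
    have h2 : r ∣ Fintype.card F := by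
      rw [hn]
      exact dvd_pow_self r n.ne_zero
    have h3 : 1 < Fintype.card F := Fintype.one_lt_card
    have h4 : r ∣ Fintype.card F - (Fintype.card F - 1) := Nat.dvd_sub h2 h1
    rw [Nat.sub_sub_self h3.le] at h4
    exact (Fact.out : r.Prime).one_lt.ne' (Nat.dvd_one.1 h4)
  have hrel : ¬ r ∣ (UU D F).relIndex (normalizer ((UU D F : Subgroup ↥(D.group F)) : Set ↥(D.group F))) := by
    rw [hN, hPB]
    intro hd
    have hn : ((UU D F).subgroupOf (BB D F)).Normal := by
      constructor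
      intro u hu b
      rw [Subgroup.mem_subgroupOf] at hu ⊢
      exact conj_mem_UU F hD b.2 hu
    have h1 : r ∣ Nat.card (BB D F ⧸ (UU D F).subgroupOf (BB D F)) := hd
    obtain ⟨x, hx⟩ := exists_prime_orderOf_dvd_card' r h1
    induction x using QuotientGroup.induction_on with
    | H b =>
      obtain ⟨u, hu, h, hh, he⟩ := exists_mul F hD b.2
      have h2 : h ∈ BB D F := Subgroup.mem_sup_right hh
      have h3 : (QuotientGroup.mk b : BB D F ⧸ (UU D F).subgroupOf (BB D F)) = QuotientGroup.mk (⟨h, h2⟩ : BB D F) := by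
        rw [QuotientGroup.eq, Subgroup.mem_subgroupOf]
        show (b : ↥(D.group F))⁻¹ * h ∈ UU D F
        have e : (b : ↥(D.group F))⁻¹ * h = (b : ↥(D.group F))⁻¹ * u⁻¹ * ((b : ↥(D.group F))⁻¹)⁻¹ := by
          rw [he]
          group
        rw [e]
        exact conj_mem_UU F hD (inv_mem b.2) (inv_mem hu)
      have h4 : (QuotientGroup.mk b : BB D F ⧸ (UU D F).subgroupOf (BB D F)) ^ ((Fintype.card F - 1) ^ D.rank) = 1 := by
        rw [h3, ← QuotientGroup.mk_pow]
        have h5 : (⟨h, h2⟩ : BB D F) ^ ((Fintype.card F - 1) ^ D.rank) = 1 := by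
          apply Subtype.ext
          exact pow_eq_one F hD hh
        rw [h5]
        rfl
      exact hcop (hx ▸ orderOf_dvd_of_pow_eq_one h4)
  obtain ⟨U, hU⟩ := Schreier.BNUse.exists_sylow (UU D F) (isPGroup_UU F hD (p := r)) hrel
  exact ⟨P, hPB, hPS', U, hU, by rw [hU, hN]⟩

/-- `Stable` for the Borel subgroup. -/
theorem stable_BB (hD : InList D) [Finite F] (r : ℕ) [Fact r.Prime] [CharP F r] (k : ℕ)
    (hk : ∀ i j, walk (Cfsg.Agent.Schreier.Chev.adj D) k i = walk (Cfsg.Agent.Schreier.Chev.adj D) k j → i = j) :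
    Stable (BB D F) := by
  obtain ⟨P, hPB, hPS, U, -, hU⟩ := exists_bn F hD r
  rw [← hPB]
  refine stable_of_rigid P U hU (nn hD F) hPS.symm ?_ (Cfsg.Agent.Schreier.Chev.adj D) (fun i h => h.1 rfl) ?_
    fun σ hσ i => rigid_of_walk _ k hk σ hσ i
  · intro i j hij
    apply Fin.ext
    apply eq_of_inv_mul_mem (F := F) hD i.2 j.2
    have h1 : nS hD F i = nS hD F j := congrArg (fun g : ↥(D.group F) => (g : GL D.Idx F)) hij
    rw [h1, inv_mul_cancel]
    exact one_mem _
  · intro i j hij
    rw [hPB]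
    constructor
    · exact fun h => comm_not_mem hD F hij h.2
    · exact fun h => ⟨hij, fun h0 => h (comm_mem hD F h0)⟩

/-- a prime which does not divide `q (q - 1)` does not divide `|B|` -/
theorem not_dvd_BB (hD : InList D) [Fintype F] {p r : ℕ} (hp : p.Prime) [Fact r.Prime] [CharP F r] (hrp : r ≠ p)
    (h1 : ¬ p ∣ Fintype.card F - 1) : ¬ p ∣ Nat.card (BB D F) := by
  intro hd
  have := Fact.mk hp
  obtain ⟨x, hx⟩ := exists_prime_orderOf_dvd_card' p hd
  have hn : ((UU D F).subgroupOf (BB D F)).Normal := by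
    constructor
    intro u hu b
    rw [Subgroup.mem_subgroupOf] at hu ⊢
    exact conj_mem_UU F hD b.2 hu
  obtain ⟨u, hu, h, hh, he⟩ := exists_mul F hD x.2
  have h2 : h ∈ BB D F := Subgroup.mem_sup_right hh
  -- `x ^ ((q - 1) ^ rank) ∈ U`
  have h3 : (QuotientGroup.mk x : BB D F ⧸ (UU D F).subgroupOf (BB D F)) = QuotientGroup.mk (⟨h, h2⟩ : BB D F) := by
    rw [QuotientGroup.eq, Subgroup.mem_subgroupOf]
    show (x : ↥(D.group F))⁻¹ * h ∈ UU D F
    have e : (x : ↥(D.group F))⁻¹ * h = (x : ↥(D.group F))⁻¹ * u⁻¹ * ((x : ↥(D.group F))⁻¹)⁻¹ := by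
      rw [he]
      group
    rw [e]
    exact conj_mem_UU F hD (inv_mem x.2) (inv_mem hu)
  have h4 : (QuotientGroup.mk x : BB D F ⧸ (UU D F).subgroupOf (BB D F)) ^ ((Fintype.card F - 1) ^ D.rank) = 1 := by
    rw [h3, ← QuotientGroup.mk_pow]
    have h5 : (⟨h, h2⟩ : BB D F) ^ ((Fintype.card F - 1) ^ D.rank) = 1 := by
      apply Subtype.ext
      exact pow_eq_one F hD hh
    rw [h5]
    rfl
  have h5 : (QuotientGroup.mk x : BB D F ⧸ (UU D F).subgroupOf (BB D F)) ^ p = 1 := by
    rw [← QuotientGroup.mk_pow, ← hx, pow_orderOf_eq_one]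
    rfl
  have h6 : Nat.Coprime p ((Fintype.card F - 1) ^ D.rank) :=
    Nat.Coprime.pow_right _ ((Nat.Prime.coprime_iff_not_dvd hp).2 h1)
  have h7 : (QuotientGroup.mk x : BB D F ⧸ (UU D F).subgroupOf (BB D F)) = 1 := by
    rw [← pow_one (QuotientGroup.mk x : BB D F ⧸ (UU D F).subgroupOf (BB D F)), ← h6]
    exact pow_gcd_eq_one.2 ⟨h5, h4⟩
  have h8 : (x : ↥(D.group F)) ∈ UU D F := by
    have h9 : x ∈ (UU D F).subgroupOf (BB D F) := (QuotientGroup.eq_one_iff x).1 h7
    exact h9
  obtain ⟨n, hn'⟩ := isPGroup_UU F hD (p := r) ⟨x, h8⟩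
  have h9 : x ^ r ^ n = 1 := by
    apply Subtype.ext
    have := congrArg (fun y : UU D F => (y : ↥(D.group F))) hn'
    simpa only [_root_.SubmonoidClass.coe_pow, _root_.OneMemClass.coe_one, _root_.SubmonoidClass.mk_pow] using this
  have h10 : p ∣ r ^ n := hx ▸ orderOf_dvd_of_pow_eq_one h9
  exact hrp ((Nat.prime_dvd_prime_iff_eq hp Fact.out).1 (hp.dvd_of_dvd_pow h10)).symm

/-! ### `ExtB` -/

theorem stable_comap {S : Type*} {L : Type*} [Group S] [Group L] (e : S ≃* L) {H : Subgroup L} (h : Stable H) :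
    Stable (H.comap e.toMonoidHom) := by
  -- conjugate an automorphism of `S` to `L`
  have key : ∀ (α : MulAut S) (x : S), (MulAut.congr e α) (e x) = e (α x) := by
    intro α x
    show e (α (e.symm (e x))) = e (α x)
    rw [e.symm_apply_apply]
  refine ⟨?_, ?_, ?_⟩
  · intro s hs
    refine h.self (e s) fun x hx => ?_
    have h1 := hs (e.symm x) (show e (e.symm x) ∈ H by rwa [e.apply_symm_apply])
    have h2 : e (s * e.symm x * s⁻¹) ∈ H := h1
    rwa [map_mul, map_mul, e.apply_symm_apply, map_inv] at h2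
  · intro α
    obtain ⟨l, hl⟩ := h.cls (MulAut.congr e α)
    refine ⟨e.symm l, fun x hx => ?_⟩
    have h1 := hl (e x) hx
    rw [key] at h1
    show e (e.symm l * α x * (e.symm l)⁻¹) ∈ H
    rwa [map_mul, map_mul, map_inv, e.apply_symm_apply]
  · intro α hα s
    obtain ⟨b, hb, b', hb', h1⟩ := h.double (MulAut.congr e α) (fun x hx => by
      have h2 := hα (e.symm x) (show e (e.symm x) ∈ H by rwa [e.apply_symm_apply])
      have h3 : e (α (e.symm x)) ∈ H := h2
      rwa [← key, e.apply_symm_apply] at h3) (e s)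
    refine ⟨e.symm b, show e (e.symm b) ∈ H by rwa [e.apply_symm_apply], e.symm b',
      show e (e.symm b') ∈ H by rwa [e.apply_symm_apply], ?_⟩
    apply e.injective
    rw [← key, h1, map_mul, map_mul, e.apply_symm_apply, e.apply_symm_apply]

/-- **`ExtB` for a tabulated Chevalley group whose diagram has no symmetry.** -/
theorem extB_chev {p : ℕ} (hp : p.Prime) {M : Ideal AlgInt} (hM : IsPModular p M) (hD : InList D) {F : Type} [Field F]
    [Fintype F] {r : ℕ} [Fact r.Prime] [CharP F r] (hrp : r ≠ p) (h1 : ¬ p ∣ Fintype.card F - 1) (k : ℕ)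
    (hk : ∀ i j, walk (Cfsg.Agent.Schreier.Chev.adj D) k i = walk (Cfsg.Agent.Schreier.Chev.adj D) k j → i = j)
    {S : Type u} [Group S] [Finite S] (hS : p ∣ Nat.card S) (e : Nonempty (S ≃* ↥(D.group F))) : ExtB p M S := by
  obtain ⟨e⟩ := e
  refine extB_of_stable hM _ (stable_comap e (stable_BB F hD r k hk)) ?_
  rw [Subgroup.index_comap_of_surjective _ e.surjective]
  rw [Nat.card_congr e.toEquiv, ← Subgroup.index_mul_card (BB D F)] at hS
  exact (hp.dvd_mul.1 hS).resolve_right (not_dvd_BB F hD hp hrp h1)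

/-- **`ExtB` for `E₈(q)`.** -/
theorem extB_E8 {p : ℕ} (hp : p.Prime) {M : Ideal AlgInt} (hM : IsPModular p M) {F : Type} [Field F]
    [Fintype F] {r : ℕ} [Fact r.Prime] [CharP F r] (hrp : r ≠ p) (h1 : ¬ p ∣ Fintype.card F - 1)
    {S : Type u} [Group S] [Finite S] (hS : p ∣ Nat.card S) (e : Nonempty (S ≃* chevE8.group F)) : ExtB p M S :=
  extB_chev hp hM (D := chevE8) (by simp) hrp h1 3 walk_e8 hS e

/-- **`ExtB` for `E₇(q)`.** -/
theorem extB_E7 {p : ℕ} (hp : p.Prime) {M : Ideal AlgInt} (hM : IsPModular p M) {F : Type} [Field F]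
    [Fintype F] {r : ℕ} [Fact r.Prime] [CharP F r] (hrp : r ≠ p) (h1 : ¬ p ∣ Fintype.card F - 1)
    {S : Type u} [Group S] [Finite S] (hS : p ∣ Nat.card S) (e : Nonempty (S ≃* chevE7.group F)) : ExtB p M S :=
  extB_chev hp hM (D := chevE7) (by simp) hrp h1 5 walk_e7 hS e

end Cfsg.Agent.H626.ExtB.Chev
end

private theorem dce_7e7dc6edec80 : _root_.True := by
  try have : _root_.True := by simp only [_root_.Cfsg.Agent.H626.ExtB.Chev.walk.congr_simp]
  exact _root_.True.intro
end
end
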